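import Mathlib
import Groth.Prelude.Def_RelSpec
import Groth.Prelude.Def_AffAlg
import Groth.Agent.SpecQCAlg.Basic

set_option autoImplicit false
set_option backward.isDefEq.respectTransparency false
set_option backward.defeqAttrib.useBackward true
set_option linter.style.haveILetI false

/-!
# Universal property of the relative spectrum

`S`-morphisms `h : T ⟶ A.spec` over `g : T ⟶ S` correspond to homomorphisms of algebras
`ω : A ⟶ g_* O_T`.
-/

universe u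

open CategoryTheory AlgebraicGeometry TopologicalSpace Opposite

namespace Groth.Agent.RelSpecLib

variable {S : Scheme.{u}} (A : RelSpec.QCAlg S)

theorem isAffineOpen_preimage (U : S.Opens) (hU : IsAffineOpen U) : IsAffineOpen (A.π ⁻¹ᵁ U) :=
  hU.preimage A.π

/-- The chart is the canonical map of the affine open `π⁻¹ U`. -/
theorem ι_eq (U : S.Opens) (hU : IsAffineOpen U) :
    A.ι U hU = Spec.map (A.gammaAff U hU) ≫ (isAffineOpen_preimage A U hU).fromSpec := by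
  rw [RelSpec.QCAlg.gammaAff, Spec.map_comp, Category.assoc,
    IsAffineOpen.SpecMap_appLE_fromSpec (A.ι U hU) (isAffineOpen_preimage A U hU)
      (isAffineOpen_top _) (A.top_le_preimage U hU), IsAffineOpen.fromSpec_top]
  simp

theorem ι_res {U V : S.Opens} (hU : IsAffineOpen U) (hV : IsAffineOpen V) (hle : V ≤ U) :
    Spec.map (A.presheaf.map (homOfLE hle).op) ≫ A.ι U hU = A.ι V hV := by
  have h := A.gammaMap.naturality (homOfLE hle).op
  rw [A.gammaMap_app U hU, A.gammaMap_app V hV] at h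
  rw [ι_eq A U hU, ι_eq A V hV, ← Spec.map_comp_assoc]
  erw [← h]
  rw [Spec.map_comp, Category.assoc]
  congr 1
  exact (isAffineOpen_preimage A U hU).map_fromSpec (isAffineOpen_preimage A V hV) _

variable {T : Scheme.{u}} (g : T ⟶ S) (ω : A.presheaf ⟶ g.base _* T.presheaf)

/-- The morphism `g⁻¹ U ⟶ Spec(A)` determined by `ω`. -/
noncomputable def homOn (U : S.Opens) (hU : IsAffineOpen U) :
    ((g ⁻¹ᵁ U : T.Opens) : Scheme.{u}) ⟶ A.spec :=
  (g ⁻¹ᵁ U).toSpecΓ ≫ Spec.map (ω.app (op U)) ≫ A.ι U hU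

theorem homOn_res {U V : S.Opens} (hU : IsAffineOpen U) (hV : IsAffineOpen V) (hle : V ≤ U) :
    T.homOfLE (g.preimage_mono hle) ≫ homOn A g ω U hU = homOn A g ω V hV := by
  simp only [homOn]
  rw [← reassoc_of% Scheme.Opens.toSpecΓ_SpecMap_presheaf_map, ← ι_res A hU hV hle,
    ← Spec.map_comp_assoc, ← Spec.map_comp_assoc]
  have h := ω.naturality (homOfLE hle).op
  erw [h]
  rfl

theorem homOn_π (hω : A.str ≫ ω = g.c) (U : S.Opens) (hU : IsAffineOpen U) :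
    homOn A g ω U hU ≫ A.π = (g ⁻¹ᵁ U).ι ≫ g := by
  have h : A.str.app (op U) ≫ ω.app (op U) = g.app U :=
    NatTrans.congr_app hω (op U)
  simp only [homOn, Category.assoc]
  rw [A.ι_π U hU, ← Spec.map_comp_assoc]
  erw [h]
  rw [reassoc_of% Scheme.Opens.toSpecΓ_naturality, hU.toSpecΓ_fromSpec, morphismRestrict_ι]

theorem iSup_preimage_affine : ⨆ U : S.affineOpens, g ⁻¹ᵁ (U : S.Opens) = ⊤ := by
  rw [← Scheme.Hom.preimage_iSup, iSup_affineOpens_eq_top, Scheme.Hom.preimage_top]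

theorem exists_lift : ∃ h : T ⟶ A.spec,
    ∀ (U : S.Opens) (hU : IsAffineOpen U), (g ⁻¹ᵁ U).ι ≫ h = homOn A g ω U hU := by
  let 𝒰 := T.openCoverOfIsOpenCover (fun U : S.affineOpens => g ⁻¹ᵁ (U : S.Opens))
    (iSup_preimage_affine g)
  have compat : ∀ (U V : S.affineOpens) {Z : Scheme.{u}} (a : Z ⟶ (g ⁻¹ᵁ (U : S.Opens) : T.Opens))
      (b : Z ⟶ (g ⁻¹ᵁ (V : S.Opens) : T.Opens)),
      a ≫ (g ⁻¹ᵁ (U : S.Opens)).ι = b ≫ (g ⁻¹ᵁ (V : S.Opens)).ι →
      a ≫ homOn A g ω U U.2 = b ≫ homOn A g ω V V.2 := by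
    intro U V Z a b hab
    set c := a ≫ (g ⁻¹ᵁ (U : S.Opens)).ι with hc
    refine Scheme.Cover.hom_ext (Z.openCoverOfIsOpenCover
      (fun W : {W : S.affineOpens // (W : S.Opens) ≤ (U : S.Opens) ⊓ (V : S.Opens)} => c ⁻¹ᵁ (g ⁻¹ᵁ (W.1 : S.Opens))) ?_) _ _ ?_
    · refine top_le_iff.mp fun z _ => ?_
      have hzU : (g (c z)) ∈ (U : S.Opens) := by
        rw [hc]; exact (a z).2
      have hzV : (g (c z)) ∈ (V : S.Opens) := by
        rw [hab]; exact (b z).2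
      obtain ⟨W, hW, hzW, hWle⟩ := exists_isAffineOpen_mem_and_subset
        (U := (U : S.Opens) ⊓ V) ⟨hzU, hzV⟩
      exact Opens.mem_iSup.mpr ⟨⟨⟨W, hW⟩, hWle⟩, hzW⟩
    · intro W
      change (c ⁻¹ᵁ (g ⁻¹ᵁ (W.1 : S.Opens))).ι ≫ a ≫ homOn A g ω U U.2 =
        (c ⁻¹ᵁ (g ⁻¹ᵁ (W.1 : S.Opens))).ι ≫ b ≫ homOn A g ω V V.2
      have ea : (c ⁻¹ᵁ (g ⁻¹ᵁ (W.1 : S.Opens))).ι ≫ a =
          (c ∣_ (g ⁻¹ᵁ (W.1 : S.Opens))) ≫ T.homOfLE (g.preimage_mono (W.2.trans inf_le_left)) := by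
        rw [← cancel_mono (g ⁻¹ᵁ (U : S.Opens)).ι]
        simp [hc]
      have eb : (c ⁻¹ᵁ (g ⁻¹ᵁ (W.1 : S.Opens))).ι ≫ b =
          (c ∣_ (g ⁻¹ᵁ (W.1 : S.Opens))) ≫ T.homOfLE (g.preimage_mono (W.2.trans inf_le_right)) := by
        rw [← cancel_mono (g ⁻¹ᵁ (V : S.Opens)).ι]
        simp [hab]
      rw [reassoc_of% ea, reassoc_of% eb, homOn_res A g ω U.2 W.1.2 (W.2.trans inf_le_left),
        homOn_res A g ω V.2 W.1.2 (W.2.trans inf_le_right)]
  refine ⟨𝒰.glueMorphisms (fun U => homOn A g ω U.1 U.2) (fun U V => ?_), fun U hU => ?_⟩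
  · exact compat U V _ _ Limits.pullback.condition
  · exact 𝒰.ι_glueMorphisms _ _ ⟨U, hU⟩

/-- The morphism `T ⟶ Spec(A)` corresponding to `ω`. -/
noncomputable def lift : T ⟶ A.spec := (exists_lift A g ω).choose

theorem ι_lift (U : S.Opens) (hU : IsAffineOpen U) :
    (g ⁻¹ᵁ U).ι ≫ lift A g ω = homOn A g ω U hU :=
  (exists_lift A g ω).choose_spec U hU

theorem hom_ext {Y : Scheme.{u}} {h h' : T ⟶ Y}
    (H : ∀ (U : S.Opens), IsAffineOpen U → (g ⁻¹ᵁ U).ι ≫ h = (g ⁻¹ᵁ U).ι ≫ h') : h = h' :=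
  Scheme.Cover.hom_ext
    (T.openCoverOfIsOpenCover (fun U : S.affineOpens => g ⁻¹ᵁ (U : S.Opens)) (iSup_preimage_affine g))
    _ _ fun U => H U.1 U.2

theorem lift_π (hω : A.str ≫ ω = g.c) : lift A g ω ≫ A.π = g := by
  refine hom_ext g fun U hU => ?_
  rw [reassoc_of% ι_lift A g ω U hU, homOn_π A g ω hω U hU]

/-- The homomorphism of algebras attached to a morphism into the relative spectrum. -/
noncomputable def algMap (h : T ⟶ A.spec) (w : h ≫ A.π = g) : A.presheaf ⟶ g.base _* T.presheaf :=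
  haveI := SpecQCAlg.isIso_gammaMap A
  inv A.gammaMap ≫ AffAlg.algHom A.π g h w

theorem gammaMap_algMap (h : T ⟶ A.spec) (w : h ≫ A.π = g) :
    A.gammaMap ≫ algMap A g h w = AffAlg.algHom A.π g h w := by
  haveI := SpecQCAlg.isIso_gammaMap A
  simp [algMap]

theorem str_algMap (h : T ⟶ A.spec) (w : h ≫ A.π = g) : A.str ≫ algMap A g h w = g.c := by
  rw [← A.π_c_gammaMap, Category.assoc, gammaMap_algMap, AffAlg.algHom_comm]

theorem preimage_le {h : T ⟶ A.spec} (w : h ≫ A.π = g) (U : S.Opens) :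
    g ⁻¹ᵁ U ≤ h ⁻¹ᵁ (A.π ⁻¹ᵁ U) := by subst w; exact le_rfl

theorem algHom_app (h : T ⟶ A.spec) (w : h ≫ A.π = g) (U : S.Opens) :
    (AffAlg.algHom A.π g h w).app (op U) =
      h.appLE (A.π ⁻¹ᵁ U) (g ⁻¹ᵁ U) (preimage_le A g w U) := by
  subst w
  simp [AffAlg.algHom, Scheme.Hom.appLE]

theorem gammaAff_algMap (h : T ⟶ A.spec) (w : h ≫ A.π = g) (U : S.Opens) (hU : IsAffineOpen U) :
    A.gammaAff U hU ≫ (algMap A g h w).app (op U) =
      h.appLE (A.π ⁻¹ᵁ U) (g ⁻¹ᵁ U) (preimage_le A g w U) := by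
  rw [← A.gammaMap_app U hU, ← algHom_app A g h w U]
  exact NatTrans.congr_app (gammaMap_algMap A g h w) (op U)

theorem ι_eq_homOn (h : T ⟶ A.spec) (w : h ≫ A.π = g) (U : S.Opens) (hU : IsAffineOpen U) :
    (g ⁻¹ᵁ U).ι ≫ h = homOn A g (algMap A g h w) U hU := by
  simp only [homOn, ι_eq A U hU, ← Spec.map_comp_assoc]
  rw [gammaAff_algMap A g h w U hU, reassoc_of% Scheme.Opens.toSpecΓ_SpecMap_appLE,
    (isAffineOpen_preimage A U hU).toSpecΓ_fromSpec, Scheme.Hom.resLE_comp_ι]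

theorem lift_algMap (h : T ⟶ A.spec) (w : h ≫ A.π = g) : lift A g (algMap A g h w) = h :=
  hom_ext g fun U hU => by rw [ι_lift A g _ U hU, ι_eq_homOn A g h w U hU]

theorem affine_hom_ext {ω' : A.presheaf ⟶ g.base _* T.presheaf}
    (H : ∀ (U : S.Opens), IsAffineOpen U → ω.app (op U) = ω'.app (op U)) : ω = ω' := by
  let G : TopCat.Sheaf CommRingCat.{u} S.carrier :=
    (TopCat.Sheaf.pushforward CommRingCat.{u} g.base).obj T.sheaf
  apply (Functor.IsCoverDense.restrictHomEquivHom (G := Scheme.AffineZariskiSite.toOpensFunctor S)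
    (K := Opens.grothendieckTopology S) (ℱ := A.presheaf) (ℱ' := G)).symm.injective
  ext U : 2
  exact H U.unop.1 U.unop.2

theorem algMap_lift (hω : A.str ≫ ω = g.c) :
    algMap A g (lift A g ω) (lift_π A g ω hω) = ω := by
  refine affine_hom_ext A g _ fun U hU => ?_
  have h1 := ι_eq_homOn A g (lift A g ω) (lift_π A g ω hω) U hU
  rw [ι_lift A g ω U hU] at h1
  simp only [homOn, ← Category.assoc, cancel_mono] at h1
  have h3 := congrArg Scheme.Hom.appTop h1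
  rw [Scheme.Hom.comp_appTop, Scheme.Hom.comp_appTop, Scheme.Opens.toSpecΓ_appTop] at h3
  rw [← cancel_mono (g ⁻¹ᵁ U).topIso.inv, ← cancel_epi (Scheme.ΓSpecIso _).hom]
  simp only [← Scheme.ΓSpecIso_naturality_assoc] at h3 ⊢
  exact h3.symm

theorem existsUnique_lift (hω : A.str ≫ ω = g.c) :
    ∃! h : T ⟶ A.spec, ∃ w : h ≫ A.π = g, algMap A g h w = ω := by
  refine ⟨lift A g ω, ⟨lift_π A g ω hω, algMap_lift A g ω hω⟩, ?_⟩
  rintro h ⟨w, rfl⟩
  exact (lift_algMap A g h w).symm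

theorem ext_over {h h' : T ⟶ A.spec} (w : h ≫ A.π = g) (w' : h' ≫ A.π = g)
    (e : algMap A g h w = algMap A g h' w') : h = h' := by
  rw [← lift_algMap A g h w, e, lift_algMap]

variable {A} in
theorem homOn_specMap {B : RelSpec.QCAlg S} (φ : B ⟶ A) (U : S.Opens) (hU : IsAffineOpen U) :
    homOn A g ω U hU ≫ RelSpec.QCAlg.specMap φ = homOn B g (φ.hom ≫ ω) U hU := by
  simp only [homOn, Category.assoc]
  rw [RelSpec.QCAlg.ι_specMap, ← Spec.map_comp_assoc]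
  rfl

variable {A} in
theorem lift_specMap {B : RelSpec.QCAlg S} (φ : B ⟶ A) :
    lift A g ω ≫ RelSpec.QCAlg.specMap φ = lift B g (φ.hom ≫ ω) := by
  refine hom_ext g fun U hU => ?_
  rw [reassoc_of% ι_lift A g ω U hU, homOn_specMap g ω φ U hU, ι_lift]

variable {A} in
theorem algMap_specMap {B : RelSpec.QCAlg S} (φ : B ⟶ A) (h : T ⟶ A.spec) (w : h ≫ A.π = g) :
    algMap B g (h ≫ RelSpec.QCAlg.specMap φ) (by rw [Category.assoc, RelSpec.QCAlg.specMap_π, w]) =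
      φ.hom ≫ algMap A g h w := by
  have hh := lift_specMap g (algMap A g h w) φ
  rw [lift_algMap] at hh
  have hc : B.str ≫ φ.hom ≫ algMap A g h w = g.c := by
    rw [← Category.assoc, φ.comm, str_algMap]
  rw [← algMap_lift B g _ hc]
  congr 1


theorem specMap_id : RelSpec.QCAlg.specMap (𝟙 A) = 𝟙 A.spec := by
  refine hom_ext A.π fun U hU => ?_
  rw [Category.comp_id]
  have h := ι_eq A U hU
  rw [IsAffineOpen.fromSpec, ← Category.assoc] at h
  haveI : IsIso (A.gammaAff U hU) := SpecQCAlg.isIso_gammaAff A U hU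
  rw [← cancel_epi (Spec.map (A.gammaAff U hU) ≫ (isAffineOpen_preimage A U hU).isoSpec.inv),
    ← Category.assoc, ← h, RelSpec.QCAlg.ι_specMap]
  rw [RelSpec.QCAlg.id_hom, NatTrans.id_app]
  erw [Spec.map_id, Category.id_comp]

theorem specMap_comp {B C : RelSpec.QCAlg S} (φ : A ⟶ B) (ψ : B ⟶ C) :
    RelSpec.QCAlg.specMap (φ ≫ ψ) = RelSpec.QCAlg.specMap ψ ≫ RelSpec.QCAlg.specMap φ := by
  refine ext_over A C.π (RelSpec.QCAlg.specMap_π _) (by simp [RelSpec.QCAlg.specMap_π]) ?_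
  have h1 := algMap_specMap C.π (φ ≫ ψ) (𝟙 C.spec) (Category.id_comp _)
  have h2 := algMap_specMap C.π ψ (𝟙 C.spec) (Category.id_comp _)
  have h3 := algMap_specMap C.π φ (RelSpec.QCAlg.specMap ψ) (RelSpec.QCAlg.specMap_π _)
  simp only [Category.id_comp] at h1 h2
  rw [h3, h2, h1, RelSpec.QCAlg.comp_hom, Category.assoc]

instance isAffineHom_specMap {B : RelSpec.QCAlg S} (φ : A ⟶ B) :
    IsAffineHom (RelSpec.QCAlg.specMap φ) := by
  haveI : IsAffineHom (RelSpec.QCAlg.specMap φ ≫ A.π) := by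
    rw [RelSpec.QCAlg.specMap_π]; infer_instance
  exact IsAffineHom.of_comp _ A.π


theorem algMap_comp {T' : Scheme.{u}} (g' : T' ⟶ S) (h : T ⟶ A.spec) (w : h ≫ A.π = g) (k : T' ⟶ T)
    (wk : k ≫ g = g') :
    algMap A g' (k ≫ h) (by rw [Category.assoc, w, wk]) =
      algMap A g h w ≫ AffAlg.algHom g g' k wk := by
  haveI := SpecQCAlg.isIso_gammaMap A
  rw [← cancel_epi A.gammaMap, gammaMap_algMap, reassoc_of% gammaMap_algMap]
  subst wk
  subst w
  ext U : 2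
  simp [AffAlg.algHom]

theorem algMap_id : algMap A A.π (𝟙 A.spec) (Category.id_comp _) ≫ A.gammaMap = 𝟙 _ := by
  haveI := SpecQCAlg.isIso_gammaMap A
  have h : AffAlg.algHom A.π A.π (𝟙 A.spec) (Category.id_comp _) = 𝟙 _ := by
    ext U : 2
    simp [AffAlg.algHom]
    rfl
  simp [algMap, h]

/-- A quasi-coherent algebra is the direct image algebra of its spectrum. -/
noncomputable def unitHom : A ⟶ RelSpec.QCAlg.directImage A.π :=
  ⟨algMap A A.π (𝟙 _) (Category.id_comp _), str_algMap _ _ _ _⟩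

theorem toModuleMap_comp {B C : RelSpec.QCAlg S} (φ : A ⟶ B) (ψ : B ⟶ C) :
    RelSpec.QCAlg.Hom.toModuleMap (φ ≫ ψ) =
      RelSpec.QCAlg.Hom.toModuleMap φ ≫ RelSpec.QCAlg.Hom.toModuleMap ψ := rfl

theorem toModuleMap_id : RelSpec.QCAlg.Hom.toModuleMap (𝟙 A) = 𝟙 A.toModule := rfl


theorem algHom_app_gen {X Y : Scheme.{u}} (f : X ⟶ S) (f' : Y ⟶ S) (h : Y ⟶ X) (w : h ≫ f = f')
    (U : S.Opens) :
    (AffAlg.algHom f f' h w).app (op U) =
      h.appLE (f ⁻¹ᵁ U) (f' ⁻¹ᵁ U) (by rw [← w]; exact le_rfl) := by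
  subst w
  simp [AffAlg.algHom, Scheme.Hom.appLE]

end Groth.Agent.RelSpecLib
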