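import Mathlib
import Groth.Prelude.Def_RelSpec
import Groth.Agent.QCohLib.Criterion

set_option autoImplicit false
set_option backward.isDefEq.respectTransparency false
set_option backward.defeqAttrib.useBackward true
set_option linter.style.haveILetI false

/-!
# Generation of a symmetric algebra

For a quasi-coherent module `E` and `(A, j)` its symmetric algebra, `A(U)` is generated over `O(U)` by
the image of `E(U)` for every affine open `U`.
-/

universe u

open CategoryTheory AlgebraicGeometry TopologicalSpace Opposite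

namespace Groth.Agent.RelSpecLib

variable {S : Scheme.{u}} {E : S.Modules} (A : RelSpec.QCAlg S) (j : E ⟶ A.toModule)

/-- The image of a section of the module, as a section of the algebra. -/
noncomputable def jsec {U : S.Opens} (x : Γ(E, U)) : A.presheaf.obj (op U) := (j.app U) x

/-- The subring generated by `O(U)` and the image of `E(U)`. -/
noncomputable def gen (U : S.Opens) : Subring (A.presheaf.obj (op U)) :=
  Subring.closure (Set.range (A.str.app (op U)).hom ∪ Set.range (jsec A j (U := U)))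

theorem str_mem_gen {U : S.Opens} (r : Γ(S, U)) : (A.str.app (op U)).hom r ∈ gen A j U :=
  Subring.subset_closure (Or.inl ⟨r, rfl⟩)

theorem jsec_mem_gen {U : S.Opens} (x : Γ(E, U)) : jsec A j x ∈ gen A j U :=
  Subring.subset_closure (Or.inr ⟨x, rfl⟩)

theorem res_str {U W : S.Opens} (h : W ≤ U) (r : Γ(S, U)) :
    A.presheaf.map (homOfLE h).op ((A.str.app (op U)).hom r) =
      (A.str.app (op W)).hom (S.presheaf.map (homOfLE h).op r) :=
  (congrArg (fun t : S.presheaf.obj (op U) ⟶ A.presheaf.obj (op W) => t.hom r)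
    (A.str.naturality (homOfLE h).op)).symm

theorem res_res {U V W : S.Opens} (h : V ≤ U) (h' : W ≤ V) (a : A.presheaf.obj (op U)) :
    A.presheaf.map (homOfLE h').op (A.presheaf.map (homOfLE h).op a) =
      A.presheaf.map (homOfLE (h'.trans h)).op a := by
  rw [← CommRingCat.comp_apply, ← Functor.map_comp]
  rfl

theorem res_jsec {U W : S.Opens} (h : W ≤ U) (x : Γ(E, U)) :
    A.presheaf.map (homOfLE h).op (jsec A j x) = jsec A j (E.presheaf.map (homOfLE h).op x) := by
  have := congrArg (fun t : E.presheaf.obj (op U) ⟶ A.toModule.presheaf.obj (op W) => t x)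
    (j.mapPresheaf.naturality (homOfLE h).op)
  exact this.symm

theorem res_mem_gen {U W : S.Opens} (h : W ≤ U) {a : A.presheaf.obj (op U)} (ha : a ∈ gen A j U) :
    A.presheaf.map (homOfLE h).op a ∈ gen A j W := by
  suffices gen A j U ≤ (gen A j W).comap (A.presheaf.map (homOfLE h).op).hom from this ha
  refine Subring.closure_le.mpr ?_
  rintro _ (⟨r, rfl⟩ | ⟨x, rfl⟩)
  · show A.presheaf.map (homOfLE h).op _ ∈ gen A j W
    rw [res_str A h r]; exact str_mem_gen A j _
  · show A.presheaf.map (homOfLE h).op _ ∈ gen A j W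
    rw [res_jsec A j h x]; exact jsec_mem_gen A j _

theorem jsec_smul {U : S.Opens} (r : Γ(S, U)) (x : Γ(E, U)) :
    jsec A j (r • x) = (A.str.app (op U)).hom r * jsec A j x :=
  (Scheme.Modules.Hom.app_smul j r x)

theorem gen_extend [Coh.IsQCoh E] {W : S.Opens} (hW : IsAffineOpen W) (r : Γ(S, W))
    {a : A.presheaf.obj (op (S.basicOpen r))} (ha : a ∈ gen A j (S.basicOpen r)) :
    ∃ (n : ℕ), ∃ b ∈ gen A j W, A.presheaf.map (homOfLE (S.basicOpen_le r)).op b =
      A.presheaf.map (homOfLE (S.basicOpen_le r)).op ((A.str.app (op W)).hom r) ^ n * a := by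
  induction ha using Subring.closure_induction with
  | mem a ha =>
    rcases ha with ⟨c, rfl⟩ | ⟨x, rfl⟩
    · haveI := hW.isLocalization_basicOpen r
      obtain ⟨n, c', hc'⟩ := IsLocalization.Away.surj r c
      refine ⟨n, _, str_mem_gen A j c', ?_⟩
      rw [res_str A, res_str A, ← map_pow, ← map_mul, mul_comm]
      exact congrArg _ hc'.symm
    · obtain ⟨n, x', hx'⟩ := (QCohLib.locAt E hW).extend r x
      refine ⟨n, _, jsec_mem_gen A j x', ?_⟩
      rw [res_jsec A j, res_str A, hx', CohBase.sc_apply, jsec_smul, ← map_pow, map_pow]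
  | zero => exact ⟨0, 0, zero_mem _, by simp⟩
  | one => exact ⟨0, 1, one_mem _, by simp⟩
  | add a b _ _ ha hb =>
    obtain ⟨n, a', ha', ea⟩ := ha
    obtain ⟨m, b', hb', eb⟩ := hb
    refine ⟨n + m, (A.str.app (op W)).hom r ^ m * a' + (A.str.app (op W)).hom r ^ n * b',
      add_mem (mul_mem (pow_mem (str_mem_gen A j r) m) ha') (mul_mem (pow_mem (str_mem_gen A j r) n) hb'), ?_⟩
    rw [map_add, map_mul, map_mul, map_pow, map_pow, ea, eb]
    ring
  | neg a _ ha =>
    obtain ⟨n, a', ha', ea⟩ := ha
    exact ⟨n, -a', neg_mem ha', by rw [map_neg, ea]; ring⟩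
  | mul a b _ _ ha hb =>
    obtain ⟨n, a', ha', ea⟩ := ha
    obtain ⟨m, b', hb', eb⟩ := hb
    exact ⟨n + m, a' * b', mul_mem ha' hb', by rw [map_mul, ea, eb]; ring⟩

theorem mem_gen_of_cover [Coh.IsQCoh E] {W : S.Opens} (hW : IsAffineOpen W)
    (s : A.presheaf.obj (op W))
    (h : ∀ x ∈ W, ∃ r : Γ(S, W), x ∈ S.basicOpen r ∧
      A.presheaf.map (homOfLE (S.basicOpen_le r)).op s ∈ gen A j (S.basicOpen r)) :
    s ∈ gen A j W := by
  let I : Ideal Γ(S, W) :=
    { carrier := {r | (A.str.app (op W)).hom r * s ∈ gen A j W}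
      add_mem' := fun {a b} ha hb => by
        show (A.str.app (op W)).hom (a + b) * s ∈ gen A j W
        rw [map_add, add_mul]; exact add_mem ha hb
      zero_mem' := by
        show (A.str.app (op W)).hom 0 * s ∈ gen A j W
        rw [map_zero, zero_mul]; exact zero_mem _
      smul_mem' := fun c a ha => by
        show (A.str.app (op W)).hom (c * a) * s ∈ gen A j W
        rw [map_mul, mul_assoc]; exact mul_mem (str_mem_gen A j c) ha }
  let J : Set Γ(S, W) :=
    {r | A.presheaf.map (homOfLE (S.basicOpen_le r)).op s ∈ gen A j (S.basicOpen r)}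
  have hJ : Ideal.span J = ⊤ := hW.self_le_iSup_basicOpen_iff.mp (fun x hx => by
    obtain ⟨r, hxr, hr⟩ := h x hx
    exact Opens.mem_iSup.mpr ⟨⟨r, hr⟩, hxr⟩)
  have hle : Ideal.span J ≤ I.radical := Ideal.span_le.mpr fun r hr => by
    obtain ⟨n, b, hb, eb⟩ := gen_extend A j hW r hr
    rw [← map_pow, ← map_mul] at eb
    letI := (A.presheaf.map (homOfLE (S.basicOpen_le r)).op).hom.toAlgebra
    haveI := A.isQC W hW r
    obtain ⟨⟨_, m, rfl⟩, hm⟩ := (IsLocalization.eq_iff_exists (Submonoid.powers ((A.str.app (op W)).hom r))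
      (A.presheaf.obj (op (S.basicOpen r)))).mp eb
    refine ⟨m + n, ?_⟩
    show (A.str.app (op W)).hom (r ^ (m + n)) * s ∈ gen A j W
    rw [map_pow, pow_add, mul_assoc]
    exact hm ▸ mul_mem (pow_mem (str_mem_gen A j r) m) hb
  rw [hJ] at hle
  have h1 : (1 : Γ(S, W)) ∈ I := by
    obtain ⟨n, hn⟩ := hle (Submodule.mem_top (x := (1 : Γ(S, W))))
    rwa [one_pow] at hn
  have h1' : (A.str.app (op W)).hom 1 * s ∈ gen A j W := h1
  rwa [map_one, one_mul] at h1'

/-- Sections all of whose restrictions to affine opens are in `gen`. -/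
noncomputable def sub (V : S.Opens) : Subring (A.presheaf.obj (op V)) :=
  ⨅ W : {W : S.affineOpens // (W : S.Opens) ≤ V},
    (gen A j (W.1 : S.Opens)).comap (A.presheaf.map (homOfLE W.2).op).hom

theorem mem_sub {V : S.Opens} {a : A.presheaf.obj (op V)} :
    a ∈ sub A j V ↔ ∀ (W : S.Opens) (_ : IsAffineOpen W) (h : W ≤ V),
      A.presheaf.map (homOfLE h).op a ∈ gen A j W := by
  simp only [sub, Subring.mem_iInf, Subring.mem_comap]
  exact ⟨fun H W hW h => H ⟨⟨W, hW⟩, h⟩, fun H W => H _ W.1.2 W.2⟩

theorem res_mem_sub {U V : S.Opens} (h : V ≤ U) {a : A.presheaf.obj (op U)} (ha : a ∈ sub A j U) :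
    A.presheaf.map (homOfLE h).op a ∈ sub A j V := by
  rw [mem_sub] at ha ⊢
  intro W hW hWV
  rw [res_res A h hWV]
  exact ha W hW (hWV.trans h)

theorem sub_affine {W : S.Opens} (hW : IsAffineOpen W) {a : A.presheaf.obj (op W)} :
    a ∈ sub A j W ↔ a ∈ gen A j W := by
  rw [mem_sub]
  refine ⟨fun h => ?_, fun h V hV hle => res_mem_gen A j hle h⟩
  have := h W hW le_rfl
  have e : (homOfLE (le_refl W)).op = 𝟙 (op W) := rfl
  rw [e, CategoryTheory.Functor.map_id] at this
  exact this

/-- The presheaf of subrings. -/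
noncomputable def subPresheaf : TopCat.Presheaf CommRingCat.{u} S.carrier where
  obj V := CommRingCat.of (sub A j V.unop)
  map {U V} i := CommRingCat.ofHom
    (((A.presheaf.map i).hom.comp (sub A j U.unop).subtype).codRestrict _ fun a =>
      res_mem_sub A j i.unop.le a.2)
  map_id U := by
    ext a
    show A.presheaf.map (𝟙 U) a.1 = a.1
    rw [CategoryTheory.Functor.map_id]
    rfl
  map_comp f g := by
    ext a
    show A.presheaf.map (f ≫ g) a.1 = A.presheaf.map g (A.presheaf.map f a.1)
    rw [Functor.map_comp]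
    rfl

theorem str_mem_sub {V : S.Opens} (r : Γ(S, V)) : (A.str.app (op V)).hom r ∈ sub A j V :=
  (mem_sub A j).mpr fun W _ h => by rw [res_str A h r]; exact str_mem_gen A j _

theorem jsec_mem_sub {V : S.Opens} (x : Γ(E, V)) : jsec A j x ∈ sub A j V :=
  (mem_sub A j).mpr fun W _ h => by rw [res_jsec A j h x]; exact jsec_mem_gen A j _

theorem isSheaf_subPresheaf [Coh.IsQCoh E] : (subPresheaf A j).IsSheaf := by
  refine (TopCat.Presheaf.isSheaf_iff_isSheaf_comp (forget CommRingCat) _).mpr ?_
  rw [TopCat.Presheaf.isSheaf_iff_isSheafUniqueGluing_types]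
  intro ι U sf hsf
  obtain ⟨s, hs, hsu⟩ := TopCat.Sheaf.existsUnique_gluing
    (⟨A.presheaf, A.isSheaf⟩ : TopCat.Sheaf CommRingCat.{u} S.carrier) U (fun i => (sf i).1)
    (fun i k => congrArg Subtype.val (hsf i k))
  have hmem : s ∈ sub A j (iSup U) := by
    rw [mem_sub]
    intro W hW hWle
    refine mem_gen_of_cover A j hW _ fun x hx => ?_
    obtain ⟨i, hxi⟩ := Opens.mem_iSup.mp (hWle hx)
    obtain ⟨r, hr, hxr⟩ := hW.exists_basicOpen_le (V := W ⊓ U i) ⟨x, hx, hxi⟩ hx
    refine ⟨r, hxr, ?_⟩
    rw [res_res A hWle (S.basicOpen_le r)]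
    have hsi : A.presheaf.map (homOfLE (le_iSup U i)).op s = (sf i).1 := hs i
    have := (mem_sub A j).mp (sf i).2 _ (hW.basicOpen r) (hr.trans inf_le_right)
    rw [← hsi, res_res A (le_iSup U i)] at this
    exact this
  refine ⟨⟨s, hmem⟩, fun i => Subtype.ext (hs i), fun t ht => Subtype.ext ?_⟩
  exact hsu t.1 fun i => congrArg Subtype.val (ht i)

/-- The subalgebra generated by the image of the module. -/
noncomputable def subAlg [Coh.IsQCoh E] : RelSpec.QCAlg S where
  presheaf := subPresheaf A j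
  isSheaf := isSheaf_subPresheaf A j
  str :=
    { app := fun V => CommRingCat.ofHom ((A.str.app V).hom.codRestrict _ fun r => str_mem_sub A j r)
      naturality := fun U V i => by
        ext r
        apply Subtype.ext
        exact congrArg (fun t : S.presheaf.obj U ⟶ A.presheaf.obj V => t.hom r) (A.str.naturality i) }
  isQC W hW r := by
    letI := ((subPresheaf A j).map (homOfLE (S.basicOpen_le r)).op).hom.toAlgebra
    letI := (A.presheaf.map (homOfLE (S.basicOpen_le r)).op).hom.toAlgebra
    haveI := A.isQC W hW r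
    refine IsLocalization.Away.mk (S := (subPresheaf A j).obj (op (S.basicOpen r))) _ ?_ ?_ ?_
    · haveI := hW.isLocalization_basicOpen r
      have hu := (IsLocalization.Away.algebraMap_isUnit (S := Γ(S, S.basicOpen r)) r).map
        ((A.str.app (op (S.basicOpen r))).hom.codRestrict (sub A j (S.basicOpen r))
          fun r => str_mem_sub A j r)
      refine (congrArg IsUnit ?_).mpr hu
      apply Subtype.ext
      exact res_str A (S.basicOpen_le r) r
    · intro z
      obtain ⟨n, b, hb, eb⟩ := gen_extend A j hW r ((sub_affine A j (hW.basicOpen r)).mp z.2)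
      refine ⟨n, ⟨b, (sub_affine A j hW).mpr hb⟩, Subtype.ext ?_⟩
      exact (mul_comm _ _).trans eb.symm
    · intro a b hab
      obtain ⟨⟨_, n, rfl⟩, hn⟩ := (IsLocalization.eq_iff_exists (Submonoid.powers ((A.str.app (op W)).hom r))
        (A.presheaf.obj (op (S.basicOpen r)))).mp (congrArg Subtype.val hab)
      exact ⟨n, Subtype.ext hn⟩

/-- The inclusion of the subalgebra. -/
noncomputable def subIncl [Coh.IsQCoh E] : subAlg A j ⟶ A where
  hom :=
    { app := fun V => CommRingCat.ofHom (sub A j V.unop).subtype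
      naturality := fun _ _ _ => rfl }
  comm := rfl

/-- The module map into the subalgebra. -/
noncomputable def subJ [Coh.IsQCoh E] : E ⟶ (subAlg A j).toModule :=
  ⟨PresheafOfModules.homMk
    { app := fun V => AddCommGrpCat.ofHom
        { toFun := fun x => (⟨jsec A j x, jsec_mem_sub A j x⟩ : sub A j V.unop)
          map_zero' := Subtype.ext (map_zero (j.app V.unop).hom)
          map_add' := fun x y => Subtype.ext (map_add (j.app V.unop).hom x y) }
      naturality := fun U V i => by
        ext x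
        exact Subtype.ext (res_jsec A j i.unop.le x).symm }
    fun V r x => Subtype.ext (jsec_smul A j r x)⟩

theorem subJ_incl [Coh.IsQCoh E] :
    subJ A j ≫ RelSpec.QCAlg.Hom.toModuleMap (subIncl A j) = j := by
  apply Scheme.Modules.hom_ext
  intro U
  rfl

/-- The symmetric algebra is generated by the module on affine opens. -/
theorem gen_eq_top (hE : Coh.IsQCoh E) (hA : RelSpec.IsSymAlg E A j) {U : S.Opens}
    (hU : IsAffineOpen U) : gen A j U = ⊤ := by
  haveI := hE
  obtain ⟨φ, hφ, -⟩ := hA (subAlg A j) (subJ A j)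
  have hid : φ ≫ subIncl A j = 𝟙 A := by
    refine (hA A j).unique ?_ ?_
    · show j ≫ RelSpec.QCAlg.Hom.toModuleMap φ ≫ RelSpec.QCAlg.Hom.toModuleMap (subIncl A j) = j
      rw [reassoc_of% hφ, subJ_incl]
    · exact Category.comp_id _
  refine eq_top_iff.mpr fun a _ => ?_
  have h := congrArg (fun t : A ⟶ A => (t.hom.app (op U)).hom a) hid
  rw [← sub_affine A j hU]
  have h2 : ((φ.hom.app (op U)).hom a).1 = a := h
  exact h2 ▸ ((φ.hom.app (op U)).hom a).2

end Groth.Agent.RelSpecLib
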