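import Mathlib

/-! Functoriality of symmetric algebras in the ring, and localisation. -/

set_option autoImplicit false
set_option linter.style.haveILetI false

universe u

noncomputable section

namespace Groth.Agent.RelSpecLib

variable {R R' : Type u} [CommRing R] [CommRing R'] {M M' : Type u} [AddCommGroup M] [Module R M]
  [AddCommGroup M'] [Module R' M']

/-- The map of symmetric algebras over a ring map. -/
def symMap (φ : R →+* R') (g : M →+ M') (hg : ∀ (r : R) (m : M), g (r • m) = φ r • g m) :
    SymmetricAlgebra R M →+* SymmetricAlgebra R' M' :=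
  letI : Algebra R (SymmetricAlgebra R' M') :=
    ((algebraMap R' (SymmetricAlgebra R' M')).comp φ).toAlgebra
  (SymmetricAlgebra.lift
    { toFun := fun m => SymmetricAlgebra.ι R' M' (g m)
      map_add' := fun m m' => by rw [map_add, map_add]
      map_smul' := fun r m => by
        rw [hg, map_smul, RingHom.id_apply, Algebra.smul_def, Algebra.smul_def]
        rfl }).toRingHom

theorem symMap_ι (φ : R →+* R') (g : M →+ M') (hg : ∀ (r : R) (m : M), g (r • m) = φ r • g m) (m : M) :
    symMap φ g hg (SymmetricAlgebra.ι R M m) = SymmetricAlgebra.ι R' M' (g m) :=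
  letI : Algebra R (SymmetricAlgebra R' M') :=
    ((algebraMap R' (SymmetricAlgebra R' M')).comp φ).toAlgebra
  SymmetricAlgebra.lift_ι_apply _ m

theorem symMap_algebraMap (φ : R →+* R') (g : M →+ M') (hg : ∀ (r : R) (m : M), g (r • m) = φ r • g m) (r : R) :
    symMap φ g hg (algebraMap R (SymmetricAlgebra R M) r) = algebraMap R' (SymmetricAlgebra R' M') (φ r) :=
  letI : Algebra R (SymmetricAlgebra R' M') :=
    ((algebraMap R' (SymmetricAlgebra R' M')).comp φ).toAlgebra
  (SymmetricAlgebra.lift
    { toFun := fun m => SymmetricAlgebra.ι R' M' (g m)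
      map_add' := fun m m' => by rw [map_add, map_add]
      map_smul' := fun r m => by
        rw [hg, map_smul, RingHom.id_apply, Algebra.smul_def, Algebra.smul_def]
        rfl }).commutes r

theorem symHom_ext {C : Type*} [Semiring C] {f g : SymmetricAlgebra R M →+* C}
    (h₀ : ∀ r, f (algebraMap R (SymmetricAlgebra R M) r) = g (algebraMap R (SymmetricAlgebra R M) r))
    (h₁ : ∀ m, f (SymmetricAlgebra.ι R M m) = g (SymmetricAlgebra.ι R M m)) : f = g := by
  refine RingHom.ext fun x => ?_
  induction x using SymmetricAlgebra.induction with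
  | algebraMap r => exact h₀ r
  | ι m => exact h₁ m
  | mul a b ha hb => rw [map_mul, map_mul, ha, hb]
  | add a b ha hb => rw [map_add, map_add, ha, hb]

/-- The symmetric algebra of a localised module is a localisation. -/
theorem isLocalization_symMap [Algebra R R'] [Module R M'] [IsScalarTower R R' M'] (r : R)
    [IsLocalization.Away r R'] (g : M →ₗ[R] M') [IsLocalizedModule (Submonoid.powers r) g]
    (hg : ∀ (a : R) (m : M), g.toAddMonoidHom (a • m) = algebraMap R R' a • g.toAddMonoidHom m) :
    letI := (symMap (algebraMap R R') g.toAddMonoidHom hg).toAlgebra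
    IsLocalization.Away (algebraMap R (SymmetricAlgebra R M) r) (SymmetricAlgebra R' M') := by
  letI := (symMap (algebraMap R R') g.toAddMonoidHom hg).toAlgebra
  let c := algebraMap R (SymmetricAlgebra R M) r
  let L := Localization.Away c
  let aL : R →+* L := algebraMap R L
  have haL : ∀ a : R, aL a = algebraMap (SymmetricAlgebra R M) L (algebraMap R (SymmetricAlgebra R M) a) :=
    fun a => IsScalarTower.algebraMap_apply R (SymmetricAlgebra R M) L a
  have hu : IsUnit (aL r) := by
    rw [haL]
    exact IsLocalization.Away.algebraMap_isUnit (S := L) c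
  let ψ : R' →+* L := IsLocalization.Away.lift r hu
  letI : Algebra R' L := ψ.toAlgebra
  haveI : IsScalarTower R R' L := IsScalarTower.of_algebraMap_eq fun a =>
    (IsLocalization.Away.lift_eq r hu a).symm
  let g₀ : M →ₗ[R] L :=
    { toFun := fun m => algebraMap (SymmetricAlgebra R M) L (SymmetricAlgebra.ι R M m)
      map_add' := fun m m' => by rw [map_add, map_add]
      map_smul' := fun a m => by
        rw [map_smul, RingHom.id_apply, Algebra.smul_def, Algebra.smul_def, map_mul,
          ← IsScalarTower.algebraMap_apply] }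
  have hend : ∀ x : Submonoid.powers r, IsUnit (algebraMap R (Module.End R L) x) := by
    rintro ⟨x, n, rfl⟩
    rw [Module.End.isUnit_iff]
    have hun : IsUnit (aL (r ^ n)) := by rw [map_pow]; exact hu.pow n
    have : (fun y : L => (algebraMap R (Module.End R L) (r ^ n)) y) = fun y => aL (r ^ n) * y :=
      funext fun y => Algebra.smul_def (R := R) (A := L) (r ^ n) y
    show Function.Bijective fun y : L => (algebraMap R (Module.End R L) (r ^ n)) y
    rw [this]
    exact hun.unit.mulLeft.bijective
  let θ : M' →ₗ[R] L := IsLocalizedModule.lift (Submonoid.powers r) g g₀ hend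
  let θ' : M' →ₗ[R'] L := LinearMap.extendScalarsOfIsLocalization (Submonoid.powers r) R' θ
  let Ψ : SymmetricAlgebra R' M' →ₐ[R'] L := SymmetricAlgebra.lift θ'
  have hΨ : Ψ.toRingHom.comp (symMap (algebraMap R R') g.toAddMonoidHom hg) =
      algebraMap (SymmetricAlgebra R M) L := symHom_ext (fun a => by
        rw [RingHom.comp_apply, symMap_algebraMap]
        exact (Ψ.commutes (algebraMap R R' a)).trans ((IsLocalization.Away.lift_eq r hu a).trans (haL a)))
      fun m => by
        rw [RingHom.comp_apply, symMap_ι]
        exact (SymmetricAlgebra.lift_ι_apply θ' (g m)).trans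
          (IsLocalizedModule.lift_apply (Submonoid.powers r) g g₀ hend m)
  refine IsLocalization.Away.mk (S := SymmetricAlgebra R' M') c ?_ ?_ ?_
  · show IsUnit (symMap (algebraMap R R') g.toAddMonoidHom hg c)
    rw [symMap_algebraMap]
    exact (IsLocalization.Away.algebraMap_isUnit (S := R') r).map _
  · intro z
    show ∃ (n : ℕ) (a : SymmetricAlgebra R M),
      z * (symMap (algebraMap R R') g.toAddMonoidHom hg c) ^ n = symMap (algebraMap R R') g.toAddMonoidHom hg a
    induction z using SymmetricAlgebra.induction with
    | algebraMap a =>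
      obtain ⟨n, b, hb⟩ := IsLocalization.Away.surj r a
      refine ⟨n, algebraMap R _ b, ?_⟩
      rw [symMap_algebraMap, symMap_algebraMap, ← map_pow, ← map_mul, hb]
    | ι m =>
      obtain ⟨⟨x, ⟨_, n, rfl⟩⟩, hx⟩ := IsLocalizedModule.surj (Submonoid.powers r) g m
      refine ⟨n, SymmetricAlgebra.ι R M x, ?_⟩
      have hx' : algebraMap R R' (r ^ n) • m = g x := by
        rw [algebraMap_smul]
        exact hx
      rw [symMap_ι, symMap_algebraMap, show g.toAddMonoidHom x = g x from rfl, ← hx', map_smul, Algebra.smul_def,
        mul_comm, map_pow, map_pow]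
    | mul a b ha hb =>
      obtain ⟨n, a', ha⟩ := ha
      obtain ⟨n', b', hb⟩ := hb
      refine ⟨n + n', a' * b', ?_⟩
      rw [map_mul, ← ha, ← hb]
      ring
    | add a b ha hb =>
      obtain ⟨n, a', ha⟩ := ha
      obtain ⟨n', b', hb⟩ := hb
      refine ⟨n + n', a' * c ^ n' + b' * c ^ n, ?_⟩
      rw [map_add, map_mul, map_mul, ← ha, ← hb, map_pow, map_pow]
      ring
  · intro a b hab
    have h2 := congrArg Ψ.toRingHom hab
    have e : algebraMap (SymmetricAlgebra R M) L a = algebraMap (SymmetricAlgebra R M) L b := by
      rw [← hΨ]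
      exact h2
    obtain ⟨⟨_, n, rfl⟩, hn⟩ := (IsLocalization.eq_iff_exists (Submonoid.powers c) L).1 e
    exact ⟨n, hn⟩

end Groth.Agent.RelSpecLib
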