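import Groth.Agent.RelSpecLib.OfAffine
import Groth.Agent.RelSpecLib.SymLoc
import Groth.Agent.RelSpecLib.Gen

/-! Existence of symmetric algebras of quasi-coherent modules, and their sections over affine opens. -/

set_option autoImplicit false
set_option linter.style.haveILetI false
set_option backward.isDefEq.respectTransparency false
set_option backward.defeqAttrib.useBackward true

universe u

open CategoryTheory CategoryTheory.Limits AlgebraicGeometry TopologicalSpace Opposite

noncomputable section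

namespace Groth.Agent.RelSpecLib

variable {S : Scheme.{u}} (E : S.Modules)

/-- Restriction of symmetric algebras of sections. -/
def symRes {U V : S.Opens} (h : V ≤ U) :
    SymmetricAlgebra Γ(S, U) Γ(E, U) →+* SymmetricAlgebra Γ(S, V) Γ(E, V) :=
  symMap (S.presheaf.map (homOfLE h).op).hom (E.presheaf.map (homOfLE h).op).hom
    (fun r m => E.map_smul (homOfLE h) r m)

theorem symRes_ι {U V : S.Opens} (h : V ≤ U) (m : Γ(E, U)) :
    symRes E h (SymmetricAlgebra.ι _ _ m) = SymmetricAlgebra.ι _ _ (E.presheaf.map (homOfLE h).op m) :=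
  symMap_ι _ _ _ m

theorem symRes_algebraMap {U V : S.Opens} (h : V ≤ U) (r : Γ(S, U)) :
    symRes E h (algebraMap _ _ r) = algebraMap _ _ (S.presheaf.map (homOfLE h).op r) :=
  symMap_algebraMap _ _ _ r

theorem symRes_self {U : S.Opens} (h : U ≤ U) : symRes E h = RingHom.id _ :=
  symHom_ext
    (fun r => by
      rw [symRes_algebraMap, show (homOfLE h).op = 𝟙 (op U) from Subsingleton.elim _ _, S.presheaf.map_id]; rfl)
    fun m => by
      rw [symRes_ι, show (homOfLE h).op = 𝟙 (op U) from Subsingleton.elim _ _, E.presheaf.map_id]; rfl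

theorem symRes_comp {U V W : S.Opens} (h : V ≤ U) (h' : W ≤ V) :
    (symRes E h').comp (symRes E h) = symRes E (h'.trans h) :=
  symHom_ext
    (fun r => by
      rw [RingHom.comp_apply, symRes_algebraMap, symRes_algebraMap, symRes_algebraMap,
        ← CommRingCat.comp_apply, ← Functor.map_comp]; rfl)
    fun m => by
      rw [RingHom.comp_apply, symRes_ι, symRes_ι, symRes_ι, ← ConcreteCategory.comp_apply, ← Functor.map_comp]; rfl

/-- The symmetric algebras over the affine opens. -/
def symData [Coh.IsQCoh E] : AffData S where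
  F :=
    { obj := fun U => CommRingCat.of (SymmetricAlgebra Γ(S, U.unop.1) Γ(E, U.unop.1))
      map := fun {U V} i => CommRingCat.ofHom (symRes E (Scheme.AffineZariskiSite.toOpens_mono i.unop.le))
      map_id := fun U => CommRingCat.hom_ext (symRes_self E _)
      map_comp := fun {U V W} i k => CommRingCat.hom_ext
        (symRes_comp E (Scheme.AffineZariskiSite.toOpens_mono i.unop.le)
          (Scheme.AffineZariskiSite.toOpens_mono k.unop.le)).symm }
  α :=
    { app := fun U => CommRingCat.ofHom (algebraMap Γ(S, U.unop.1) (SymmetricAlgebra Γ(S, U.unop.1) Γ(E, U.unop.1)))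
      naturality := fun U V i => CommRingCat.hom_ext (RingHom.ext fun r =>
        (symRes_algebraMap E (Scheme.AffineZariskiSite.toOpens_mono i.unop.le) r).symm) }
  loc U f := by
    have hW := U.2
    letI : Algebra Γ(S, U.1) Γ(S, S.basicOpen f) := (S.presheaf.map (homOfLE (S.basicOpen_le f)).op).hom.toAlgebra
    haveI : IsLocalization.Away f Γ(S, S.basicOpen f) := hW.isLocalization_basicOpen f
    letI : Module Γ(S, U.1) Γ(E, S.basicOpen f) :=
      Module.compHom _ (S.presheaf.map (homOfLE (S.basicOpen_le f)).op).hom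
    haveI : IsScalarTower Γ(S, U.1) Γ(S, S.basicOpen f) Γ(E, S.basicOpen f) :=
      .of_algebraMap_smul fun _ _ => rfl
    let g : Γ(E, U.1) →ₗ[Γ(S, U.1)] Γ(E, S.basicOpen f) :=
      { toFun := fun m => E.presheaf.map (homOfLE (S.basicOpen_le f)).op m
        map_add' := fun m m' => map_add (E.presheaf.map (homOfLE (S.basicOpen_le f)).op).hom m m'
        map_smul' := fun r m => E.map_smul (homOfLE (S.basicOpen_le f)) r m }
    haveI : IsLocalizedModule (Submonoid.powers f) g := by
      have hE := QCohLib.locAt E hW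
      refine IsLocalizedModule.Away.mk_of_addCommGroup ?_ ?_ ?_
      · rw [Module.End.isUnit_iff]
        have hun : IsUnit (algebraMap Γ(S, U.1) Γ(S, S.basicOpen f) f) :=
          IsLocalization.Away.algebraMap_isUnit (S := Γ(S, S.basicOpen f)) f
        exact hun.unit.isUnit.smul_bijective (β := Γ(E, S.basicOpen f))
      · intro t
        obtain ⟨n, s, hs⟩ := hE.extend f t
        exact ⟨n, s, hs.symm⟩
      · intro s hs
        obtain ⟨n, hn⟩ := hE.kill f s hs
        refine ⟨n, ?_⟩
        rw [CohBase.sc_apply] at hn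
        refine Eq.trans ?_ hn
        rw [show (homOfLE (le_refl U.1)).op = 𝟙 (op U.1) from Subsingleton.elim _ _, S.presheaf.map_id]
        rfl
    exact isLocalization_symMap f g fun r m => E.map_smul (homOfLE (S.basicOpen_le f)) r m

/-- The symmetric algebra. -/
def symAlg [Coh.IsQCoh E] : RelSpec.QCAlg S := (symData E).alg

/-- Maps into a module with the same values on affine opens are equal. -/
theorem hom_ext_affine {E' N : S.Modules} (f g : E' ⟶ N)
    (h : ∀ (U : S.Opens), IsAffineOpen U → ∀ x : Γ(E', U), f.app U x = g.app U x) : f = g := by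
  refine Scheme.Modules.hom_ext _ _ fun W => ConcreteCategory.hom_ext _ _ fun x => ?_
  refine TopCat.Sheaf.eq_of_locally_eq' (⟨N.presheaf, N.isSheaf⟩ : TopCat.Sheaf Ab.{u} S.carrier)
    (fun a : {U : S.Opens // IsAffineOpen U ∧ U ≤ W} => a.1) W (fun a => homOfLE a.2.2) (fun y hy => ?_) _ _
    fun a => ?_
  · obtain ⟨_, ⟨V, hV, rfl⟩, hyV, hVW⟩ :=
      S.isBasis_affineOpens.exists_subset_of_mem_open hy W.2
    exact Opens.mem_iSup.2 ⟨⟨V, hV, hVW⟩, hyV⟩
  · exact (ConcreteCategory.congr_hom (f.mapPresheaf.naturality (homOfLE a.2.2).op) x).symm.trans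
      ((h a.1 a.2.1 _).trans (ConcreteCategory.congr_hom (g.mapPresheaf.naturality (homOfLE a.2.2).op) x))

variable [Coh.IsQCoh E]

/-- `m ↦ ι m`, into the sections of the algebra. -/
def jAff (U : S.AffineZariskiSite) : Γ(E, U.1) →+ (symAlg E).presheaf.obj (op U.1) :=
  (((symData E).affIso.inv.app (op U)).hom.toAddMonoidHom).comp
    (SymmetricAlgebra.ι Γ(S, U.1) Γ(E, U.1)).toAddMonoidHom

theorem aff_jAff (U : S.AffineZariskiSite) (m : Γ(E, U.1)) :
    (symData E).affIso.hom.app (op U) (jAff E U m) = SymmetricAlgebra.ι Γ(S, U.1) Γ(E, U.1) m :=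
  ConcreteCategory.congr_hom ((symData E).affIso.inv_hom_id_app (op U)) _

theorem aff_str (U : S.AffineZariskiSite) (r : Γ(S, U.1)) :
    (symData E).affIso.hom.app (op U) ((symAlg E).str.app (op U.1) r) =
      algebraMap Γ(S, U.1) (SymmetricAlgebra Γ(S, U.1) Γ(E, U.1)) r :=
  ConcreteCategory.congr_hom ((symData E).str_aff U) r

theorem aff_injective (U : S.AffineZariskiSite) :
    Function.Injective ((symData E).affIso.hom.app (op U)) :=
  (ConcreteCategory.bijective_of_isIso ((symData E).affIso.hom.app (op U))).1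

theorem jAff_smul (U : S.AffineZariskiSite) (r : Γ(S, U.1)) (m : Γ(E, U.1)) :
    jAff E U (r • m) = (symAlg E).str.app (op U.1) r * jAff E U m := by
  refine aff_injective E U ?_
  rw [aff_jAff, map_mul, aff_str, aff_jAff, map_smul, Algebra.smul_def]

/-- `E ⟶ Sym E`, on presheaves. -/
def jPre : E.presheaf ⟶ (symAlg E).toModule.presheaf :=
  Functor.IsCoverDense.restrictHomEquivHom (G := Scheme.AffineZariskiSite.toOpensFunctor S)
    (K := Opens.grothendieckTopology S) (ℱ := E.presheaf)
    (ℱ' := (⟨(symAlg E).toModule.presheaf, (symAlg E).toModule.isSheaf⟩ : TopCat.Sheaf Ab.{u} S.carrier))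
    { app := fun U => AddCommGrpCat.ofHom (jAff E U.unop)
      naturality := fun U V i => AddCommGrpCat.hom_ext (AddMonoidHom.ext fun m => by
        refine aff_injective E V.unop ?_
        refine (aff_jAff E V.unop _).trans ?_
        refine Eq.trans ?_ (ConcreteCategory.congr_hom ((symData E).affIso.hom.naturality i) _).symm
        refine Eq.trans ?_ (congrArg ((symData E).F.map i) (aff_jAff E U.unop m)).symm
        exact (symRes_ι E (Scheme.AffineZariskiSite.toOpens_mono i.unop.le) m).symm) }

theorem jPre_app (U : S.AffineZariskiSite) (m : Γ(E, U.1)) : (jPre E).app (op U.1) m = jAff E U m :=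
  ConcreteCategory.congr_hom (NatTrans.congr_app ((Functor.IsCoverDense.restrictHomEquivHom
    (G := Scheme.AffineZariskiSite.toOpensFunctor S) (K := Opens.grothendieckTopology S) (ℱ := E.presheaf)
    (ℱ' := (⟨(symAlg E).toModule.presheaf, (symAlg E).toModule.isSheaf⟩ : TopCat.Sheaf Ab.{u} S.carrier))).symm_apply_apply _)
      (op U)) m

theorem jPre_smul (W : S.Opens) (r : Γ(S, W)) (x : Γ(E, W)) :
    ((jPre E).app (op W) (r • x) : Γ((symAlg E).toModule, W)) =
      r • ((jPre E).app (op W) x : Γ((symAlg E).toModule, W)) := by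
  let F' : TopCat.Sheaf Ab.{u} S.carrier := ⟨(symAlg E).toModule.presheaf, (symAlg E).toModule.isSheaf⟩
  refine TopCat.Sheaf.eq_of_locally_eq' F'
    (fun a : {U : S.Opens // IsAffineOpen U ∧ U ≤ W} => a.1) W (fun a => homOfLE a.2.2) (fun y hy => ?_) _ _
    fun a => ?_
  · obtain ⟨_, ⟨V, hV, rfl⟩, hyV, hVW⟩ := S.isBasis_affineOpens.exists_subset_of_mem_open hy W.2
    exact Opens.mem_iSup.2 ⟨⟨V, hV, hVW⟩, hyV⟩
  · have hn : ∀ z : Γ(E, W), (symAlg E).toModule.presheaf.map (homOfLE a.2.2).op ((jPre E).app (op W) z) =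
        (jPre E).app (op a.1) (E.presheaf.map (homOfLE a.2.2).op z) := fun z =>
      (ConcreteCategory.congr_hom ((jPre E).naturality (homOfLE a.2.2).op) z).symm
    show (symAlg E).toModule.presheaf.map (homOfLE a.2.2).op ((jPre E).app (op W) (r • x)) =
      (symAlg E).toModule.presheaf.map (homOfLE a.2.2).op (r • ((jPre E).app (op W) x : Γ((symAlg E).toModule, W)))
    rw [hn, E.map_smul (homOfLE a.2.2), Scheme.Modules.map_smul (symAlg E).toModule (homOfLE a.2.2), hn,
      jPre_app E ⟨a.1, a.2.1⟩, jPre_app E ⟨a.1, a.2.1⟩]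
    exact jAff_smul E ⟨a.1, a.2.1⟩ _ _

/-- `E ⟶ Sym E`. -/
def symJ : E ⟶ (symAlg E).toModule :=
  ⟨PresheafOfModules.homMk (jPre E) fun W r x => jPre_smul E W.unop r x⟩

theorem symJ_app (U : S.AffineZariskiSite) (m : Γ(E, U.1)) : (symJ E).app U.1 m = jAff E U m := jPre_app E U m

/-- The evaluation of the symmetric algebra of the sections. -/
def symEval (A : RelSpec.QCAlg S) {E : S.Modules} (j : E ⟶ A.toModule) (U : S.Opens) :
    SymmetricAlgebra Γ(S, U) Γ(E, U) →+* A.presheaf.obj (op U) :=
  letI : Algebra Γ(S, U) (A.presheaf.obj (op U)) := (A.str.app (op U)).hom.toAlgebra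
  (SymmetricAlgebra.lift
    { toFun := fun m => jsec A j m
      map_add' := fun m m' => map_add (j.app U).hom m m'
      map_smul' := fun r m => jsec_smul A j r m }).toRingHom

omit [Coh.IsQCoh E] in
theorem symEval_ι (A : RelSpec.QCAlg S) {E : S.Modules} (j : E ⟶ A.toModule) (U : S.Opens) (m : Γ(E, U)) :
    symEval A j U (SymmetricAlgebra.ι _ _ m) = jsec A j m :=
  letI : Algebra Γ(S, U) (A.presheaf.obj (op U)) := (A.str.app (op U)).hom.toAlgebra
  SymmetricAlgebra.lift_ι_apply _ m

omit [Coh.IsQCoh E] in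
theorem symEval_algebraMap (A : RelSpec.QCAlg S) {E : S.Modules} (j : E ⟶ A.toModule) (U : S.Opens) (r : Γ(S, U)) :
    symEval A j U (algebraMap _ _ r) = (A.str.app (op U)).hom r :=
  letI : Algebra Γ(S, U) (A.presheaf.obj (op U)) := (A.str.app (op U)).hom.toAlgebra
  (SymmetricAlgebra.lift
    { toFun := fun m => jsec A j m
      map_add' := fun m m' => map_add (j.app U).hom m m'
      map_smul' := fun r m => jsec_smul A j r m }).commutes r

omit [Coh.IsQCoh E] in
theorem str_map (A : RelSpec.QCAlg S) {U V : S.Opens} (h : V ≤ U) (r : Γ(S, U)) :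
    (A.presheaf.map (homOfLE h).op).hom ((A.str.app (op U)).hom r) =
      (A.str.app (op V)).hom (S.presheaf.map (homOfLE h).op r) :=
  res_str A h r

/-- The symmetric algebra is one. -/
theorem isSymAlg_symAlg : RelSpec.IsSymAlg E (symAlg E) (symJ E) := by
  intro B φ
  let Φ : (Scheme.AffineZariskiSite.toOpensFunctor S).op ⋙ (symAlg E).presheaf ⟶
      (Scheme.AffineZariskiSite.toOpensFunctor S).op ⋙ B.presheaf :=
    (symData E).affIso.hom ≫
      { app := fun U => CommRingCat.ofHom (symEval B φ U.unop.1)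
        naturality := fun U V i => CommRingCat.hom_ext (symHom_ext
          (fun r => (congrArg (symEval B φ V.unop.1)
              (symRes_algebraMap E (Scheme.AffineZariskiSite.toOpens_mono i.unop.le) r)).trans
            ((symEval_algebraMap B φ _ _).trans ((str_map B (Scheme.AffineZariskiSite.toOpens_mono i.unop.le) r).symm.trans
              (congrArg _ (symEval_algebraMap B φ _ r)).symm)))
          fun m => (congrArg (symEval B φ V.unop.1)
              (symRes_ι E (Scheme.AffineZariskiSite.toOpens_mono i.unop.le) m)).trans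
            ((symEval_ι B φ _ _).trans ((res_jsec B φ (Scheme.AffineZariskiSite.toOpens_mono i.unop.le) m).symm.trans
              (congrArg _ (symEval_ι B φ _ m)).symm))) }
  let e := Functor.IsCoverDense.restrictHomEquivHom (G := Scheme.AffineZariskiSite.toOpensFunctor S)
    (K := Opens.grothendieckTopology S) (ℱ := (symAlg E).presheaf)
    (ℱ' := (⟨B.presheaf, B.isSheaf⟩ : TopCat.Sheaf CommRingCat.{u} S.carrier))
  have happ : ∀ (U : S.AffineZariskiSite) (a : (symAlg E).presheaf.obj (op U.1)),
      (e Φ).app (op U.1) a = symEval B φ U.1 ((symData E).affIso.hom.app (op U) a) := fun U a =>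
    ConcreteCategory.congr_hom (NatTrans.congr_app (e.symm_apply_apply Φ) (op U)) a
  have hcomm : (symAlg E).str ≫ e Φ = B.str := by
    apply (Functor.IsCoverDense.restrictHomEquivHom (G := Scheme.AffineZariskiSite.toOpensFunctor S)
      (K := Opens.grothendieckTopology S) (ℱ := S.presheaf)
      (ℱ' := (⟨B.presheaf, B.isSheaf⟩ : TopCat.Sheaf CommRingCat.{u} S.carrier))).symm.injective
    refine NatTrans.ext (funext fun U => CommRingCat.hom_ext (RingHom.ext fun r => ?_))
    show (e Φ).app (op U.unop.1) ((symAlg E).str.app (op U.unop.1) r) = B.str.app (op U.unop.1) r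
    rw [happ, aff_str]
    exact symEval_algebraMap B φ _ r
  refine ⟨⟨e Φ, hcomm⟩, hom_ext_affine _ _ fun U hU x => ?_, fun ψ hψ => RelSpec.QCAlg.hom_ext ?_⟩
  · rw [Scheme.Modules.Hom.comp_app, ConcreteCategory.comp_apply, symJ_app E ⟨U, hU⟩]
    show (e Φ).app (op U) (jAff E ⟨U, hU⟩ x) = _
    rw [happ ⟨U, hU⟩, aff_jAff]
    exact symEval_ι B φ U x
  · refine e.symm.injective (NatTrans.ext (funext fun U => ?_))
    rw [← cancel_epi ((symData E).affIso.inv.app U)]
    refine CommRingCat.hom_ext (symHom_ext (fun r => ?_) fun m => ?_)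
    · have h1 : (symData E).affIso.inv.app U (algebraMap Γ(S, U.unop.1) (SymmetricAlgebra Γ(S, U.unop.1) Γ(E, U.unop.1)) r) =
          (symAlg E).str.app (op U.unop.1) r := by
        rw [← aff_str E U.unop r]
        exact ConcreteCategory.congr_hom ((symData E).affIso.hom_inv_id_app U) _
      show ψ.hom.app (op U.unop.1) ((symData E).affIso.inv.app U _) =
        (e Φ).app (op U.unop.1) ((symData E).affIso.inv.app U _)
      rw [h1]
      exact (ConcreteCategory.congr_hom (NatTrans.congr_app ψ.comm (op U.unop.1)) r).trans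
        (ConcreteCategory.congr_hom (NatTrans.congr_app hcomm (op U.unop.1)) r).symm
    · show ψ.hom.app (op U.unop.1) (jAff E U.unop m) = (e Φ).app (op U.unop.1) (jAff E U.unop m)
      rw [happ, aff_jAff, symEval_ι, ← symJ_app E U.unop m]
      exact congr(($hψ).app U.unop.1 m)

/-- On affine opens a symmetric algebra is the symmetric algebra of the sections. -/
theorem bijective_symEval {A : RelSpec.QCAlg S} {j : E ⟶ A.toModule} (hA : RelSpec.IsSymAlg E A j) {U : S.Opens}
    (hU : IsAffineOpen U) : Function.Bijective (symEval A j U) := by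
  obtain ⟨ψ, hψ, -⟩ := isSymAlg_symAlg E A j
  obtain ⟨χ, hχ, -⟩ := hA (symAlg E) (symJ E)
  have h1 : ψ ≫ χ = 𝟙 _ := (isSymAlg_symAlg E (symAlg E) (symJ E)).unique (y₁ := ψ ≫ χ) (y₂ := 𝟙 _)
    (by
      show symJ E ≫ RelSpec.QCAlg.Hom.toModuleMap ψ ≫ RelSpec.QCAlg.Hom.toModuleMap χ = symJ E
      rw [reassoc_of% hψ, hχ])
    (Category.comp_id _)
  have h2 : χ ≫ ψ = 𝟙 _ := (hA A j).unique (y₁ := χ ≫ ψ) (y₂ := 𝟙 _)
    (by
      show j ≫ RelSpec.QCAlg.Hom.toModuleMap χ ≫ RelSpec.QCAlg.Hom.toModuleMap ψ = j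
      rw [reassoc_of% hχ, hψ])
    (Category.comp_id _)
  have hψb : Function.Bijective (ψ.hom.app (op U)) := by
    refine Function.bijective_iff_has_inverse.2 ⟨χ.hom.app (op U), fun a => ?_, fun a => ?_⟩
    · exact congr(($h1).hom.app (op U) a)
    · exact congr(($h2).hom.app (op U) a)
  have key : symEval A j U = (ψ.hom.app (op U)).hom.comp ((symData E).affIso.inv.app (op ⟨U, hU⟩)).hom := by
    refine symHom_ext (fun r => ?_) fun m => ?_
    · rw [symEval_algebraMap, RingHom.comp_apply, ← aff_str E ⟨U, hU⟩ r]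
      refine Eq.trans ?_ (congrArg (ψ.hom.app (op U))
        (ConcreteCategory.congr_hom ((symData E).affIso.hom_inv_id_app (op ⟨U, hU⟩)) _).symm)
      exact (ConcreteCategory.congr_hom (NatTrans.congr_app ψ.comm (op U)) r).symm
    · rw [symEval_ι]
      show jsec A j m = ψ.hom.app (op U) (jAff E ⟨U, hU⟩ m)
      rw [← symJ_app E ⟨U, hU⟩ m]
      exact congr(($hψ).app U m).symm
  rw [key]
  exact hψb.comp (ConcreteCategory.bijective_of_isIso ((symData E).affIso.inv.app (op ⟨U, hU⟩)))

end Groth.Agent.RelSpecLib
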