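import Mathlib
import Groth.Prelude.Def_RelSpec2
import Groth.Agent.RelSpecLib.Basic

set_option autoImplicit false
set_option backward.isDefEq.respectTransparency false
set_option backward.defeqAttrib.useBackward true
set_option linter.style.haveILetI false

/-!
# The pointed affine cone chart by chart
-/

universe u

open CategoryTheory AlgebraicGeometry TopologicalSpace Opposite
open scoped HomogeneousIdeal

noncomputable section

namespace Groth.Agent.RelSpecLib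

theorem mem_vertexCompl {R : CommRingCat.{u}} (𝒜 : ℕ → AddSubgroup R) [GradedRing 𝒜] (p : Spec R) :
    p ∈ RelCone.vertexCompl 𝒜 ↔ ¬ (𝒜₊).toIdeal ≤ p.asIdeal := Iff.rfl

theorem SpecMap_apply_mem {R R' : CommRingCat.{u}} (φ : R ⟶ R') (p : Spec R') (a : R) :
    a ∈ ((Spec.map φ) p).asIdeal ↔ φ.hom a ∈ p.asIdeal := Iff.rfl

variable {A B : Type u} [CommRing A] [CommRing B] {σ τ : Type u} [SetLike σ A] [AddSubgroupClass σ A]
  [SetLike τ B] [AddSubgroupClass τ B] {𝒜 : ℕ → σ} [GradedRing 𝒜] {ℬ : ℕ → τ} [GradedRing ℬ]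

theorem map_irrelevant_mem (ψ : 𝒜 →+*ᵍ ℬ) {a : A} (ha : a ∈ (𝒜₊).toIdeal) : ψ a ∈ (ℬ₊).toIdeal := by
  classical
  rw [← DirectSum.sum_support_decompose 𝒜 a, map_sum]
  refine sum_mem fun i _ => ?_
  rcases Nat.eq_zero_or_pos i with rfl | hi
  · have h0 : GradedRing.proj 𝒜 0 a = 0 := (HomogeneousIdeal.mem_irrelevant_iff 𝒜 a).mp ha
    rw [GradedRing.proj_apply] at h0
    rw [h0, map_zero]
    exact zero_mem _
  · exact HomogeneousIdeal.mem_irrelevant_of_mem _ hi (ψ.map_mem (SetLike.coe_mem _))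

/-- `domOpen ψ` is everything iff every prime containing `ψ(A₊)` contains `B₊`. -/
theorem domOpen_eq_top_iff (ψ : 𝒜 →+*ᵍ ℬ) :
    RelCone.domOpen ψ = ⊤ ↔
      ∀ p : Ideal B, p.IsPrime → (∀ a ∈ (𝒜₊).toIdeal, ψ a ∈ p) → (ℬ₊).toIdeal ≤ p := by
  classical
  constructor
  · intro h p hp hψ
    by_contra hle
    have hcore : ¬ ℬ₊ ≤ p.homogeneousCore ℬ := fun hc =>
      hle (le_trans (fun x hx => hc hx) (Ideal.toIdeal_homogeneousCore_le ℬ p))
    haveI := Ideal.IsPrime.homogeneousCore (𝒜 := ℬ) hp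
    let x : Proj ℬ := ⟨p.homogeneousCore ℬ, inferInstance, hcore⟩
    have hx : x ∈ RelCone.domOpen ψ := by rw [h]; trivial
    obtain ⟨f, hf, hfx⟩ := (RelCone.mem_domOpen ψ x).mp hx
    refine hfx ?_
    show ψ f ∈ (p.homogeneousCore ℬ).toIdeal
    rw [← DirectSum.sum_support_decompose 𝒜 f, map_sum]
    refine sum_mem fun i _ => ?_
    refine Ideal.mem_homogeneousCore_of_homogeneous_of_mem ⟨i, ψ.map_mem (SetLike.coe_mem _)⟩ (hψ _ ?_)
    exact (HomogeneousIdeal.irrelevant 𝒜).isHomogeneous i hf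
  · intro h
    refine eq_top_iff.mpr fun x _ => ?_
    rw [RelCone.mem_domOpen]
    by_contra hcon
    push Not at hcon
    exact x.not_irrelevant_le fun b hb => h x.asHomogeneousIdeal.toIdeal x.isPrime hcon hb

variable {S : Scheme.{u}} (𝒮 : RelProj.QCGrAlg S)

theorem vertexCompl_res (U : S.Opens) (hU : IsAffineOpen U) (r : Γ(S, U))
    (w : Spec (𝒮.presheaf.obj (op (S.basicOpen r)))) :
    (Spec.map (𝒮.presheaf.map (homOfLE (S.basicOpen_le r)).op)) w ∈ RelCone.vertexCompl (𝒮.deg U hU) ↔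
      w ∈ RelCone.vertexCompl (𝒮.deg (S.basicOpen r) (hU.basicOpen r)) := by
  rw [mem_vertexCompl, mem_vertexCompl, not_iff_not]
  constructor
  · intro h x hx
    have h1 := 𝒮.irrelevant_le_map U hU r hx
    refine (Ideal.map_le_iff_le_comap.mpr ?_) h1
    intro a ha
    exact h ha
  · intro h a ha
    exact h (map_irrelevant_mem (𝒮.res hU (hU.basicOpen r) (S.basicOpen_le r)) ha)

theorem ι_preimage_pointedCone (U : S.Opens) (hU : IsAffineOpen U) :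
    𝒮.toQCAlg.ι U hU ⁻¹ᵁ RelCone.pointedCone 𝒮 = RelCone.vertexCompl (𝒮.deg U hU) := by
  refine le_antisymm ?_ fun y hy => ?_
  swap
  · show 𝒮.toQCAlg.ι U hU y ∈ RelCone.pointedCone 𝒮
    exact Opens.mem_iSup.mpr ⟨⟨U, hU⟩, ⟨y, hy, rfl⟩⟩
  intro y hy
  obtain ⟨⟨V, hV⟩, z, hz, hzy⟩ := Opens.mem_iSup.mp
    (show 𝒮.toQCAlg.ι U hU y ∈ RelCone.pointedCone 𝒮 from hy)
  have hπ : ∀ (W : S.Opens) (hW : IsAffineOpen W) (q : Spec (𝒮.presheaf.obj (op W))),
      𝒮.toQCAlg.π (𝒮.toQCAlg.ι W hW q) ∈ W := fun W hW q => by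
    have : 𝒮.toQCAlg.ι W hW q ∈ 𝒮.toQCAlg.π ⁻¹ᵁ W := by
      rw [𝒮.toQCAlg.π_preimage W hW]; exact ⟨q, rfl⟩
    exact this
  set s := 𝒮.toQCAlg.π (𝒮.toQCAlg.ι U hU y) with hs
  have hsV : s ∈ V := by rw [hs, ← hzy]; exact hπ V hV z
  obtain ⟨r, t, hrt, hsr⟩ := exists_basicOpen_le_affine_inter hU hV s ⟨hπ U hU y, hsV⟩
  have hmem : 𝒮.toQCAlg.ι U hU y ∈ 𝒮.toQCAlg.π ⁻¹ᵁ S.basicOpen r := hsr
  rw [𝒮.toQCAlg.π_preimage _ (hU.basicOpen r)] at hmem
  obtain ⟨w, hw⟩ := hmem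
  rw [← ι_res 𝒮.toQCAlg hU (hU.basicOpen r) (S.basicOpen_le r)] at hw
  have hy' : Spec.map (𝒮.presheaf.map (homOfLE (S.basicOpen_le r)).op) w = y :=
    (𝒮.toQCAlg.ι U hU).isOpenEmbedding.injective hw
  rw [← hy']
  refine (vertexCompl_res 𝒮 U hU r w).mpr ?_
  clear hy hy'
  have hw' : 𝒮.toQCAlg.ι (S.basicOpen r) (hU.basicOpen r) w = 𝒮.toQCAlg.ι V hV z := by
    rw [← ι_res 𝒮.toQCAlg hU (hU.basicOpen r) (S.basicOpen_le r)]
    exact hw.trans hzy.symm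
  have key : ∀ (W : S.Opens) (hW : IsAffineOpen W) (hWt : W = S.basicOpen t)
      (w : Spec (𝒮.presheaf.obj (op W))),
      𝒮.toQCAlg.ι W hW w = 𝒮.toQCAlg.ι V hV z → w ∈ RelCone.vertexCompl (𝒮.deg W hW) := by
    rintro _ hW rfl w hw
    rw [← ι_res 𝒮.toQCAlg hV hW (S.basicOpen_le t)] at hw
    have := (𝒮.toQCAlg.ι V hV).isOpenEmbedding.injective hw
    exact (vertexCompl_res 𝒮 V hV t w).mp (this.symm ▸ hz)
  exact key _ _ hrt w hw'

variable (aug : 𝒮.toQCAlg ⟶ RelSpec.QCAlg.unit S)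

theorem aug_str (U : S.Opens) (r : Γ(S, U)) :
    (aug.hom.app (op U)).hom ((𝒮.str.app (op U)).hom r) = r :=
  congrArg (fun t : S.presheaf.obj (op U) ⟶ S.presheaf.obj (op U) => t.hom r)
    (NatTrans.congr_app aug.comm (op U))

theorem mem_vertexCompl_iff_aug (h0 : RelCone.StrZeroBij 𝒮) (haug : RelCone.IsAugmentation 𝒮 aug)
    (U : S.Opens) (hU : IsAffineOpen U) (p : Spec (𝒮.presheaf.obj (op U))) :
    p ∈ RelCone.vertexCompl (𝒮.deg U hU) ↔ p ∉ Set.range (Spec.map (aug.hom.app (op U))) := by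
  classical
  have hsurj : Function.Surjective (aug.hom.app (op U)).hom := fun r => ⟨_, aug_str 𝒮 aug U r⟩
  have hker : RingHom.ker (aug.hom.app (op U)).hom = ((𝒮.deg U hU)₊).toIdeal := by
    have hpos : ∀ a ∈ ((𝒮.deg U hU)₊).toIdeal, (aug.hom.app (op U)).hom a = 0 := by
      intro a ha
      rw [← DirectSum.sum_support_decompose (𝒮.deg U hU) a, map_sum]
      refine Finset.sum_eq_zero fun i _ => ?_
      rcases i with _ | i
      · have h := (HomogeneousIdeal.mem_irrelevant_iff (𝒮.deg U hU) a).mp ha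
        rw [GradedRing.proj_apply] at h
        rw [h, map_zero]
      · exact haug U hU i _ (SetLike.coe_mem _)
    refine le_antisymm (fun a ha => ?_) fun a ha => RingHom.mem_ker.mpr (hpos a ha)
    obtain ⟨r, hr⟩ := (h0 U hU).2 (DirectSum.decompose (𝒮.deg U hU) a 0)
    have hr' : (𝒮.str.app (op U)).hom r = (DirectSum.decompose (𝒮.deg U hU) a 0 : 𝒮.presheaf.obj (op U)) :=
      congrArg Subtype.val hr
    have hrest : a - (DirectSum.decompose (𝒮.deg U hU) a 0 : 𝒮.presheaf.obj (op U)) ∈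
        ((𝒮.deg U hU)₊).toIdeal := by
      refine (HomogeneousIdeal.mem_irrelevant_iff _ _).mpr ?_
      rw [GradedRing.proj_apply, DirectSum.decompose_sub, DirectSum.sub_apply,
        DirectSum.decompose_coe, DirectSum.of_eq_same, sub_self]
      rfl
    have h2 := hpos _ hrest
    rw [map_sub, ← hr', aug_str, RingHom.mem_ker.mp ha, zero_sub, neg_eq_zero] at h2
    rw [h2, map_zero] at hr'
    rw [← hr', sub_zero] at hrest
    exact hrest
  have hrange : Set.range (Spec.map (aug.hom.app (op U))) =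
      PrimeSpectrum.zeroLocus (RingHom.ker (aug.hom.app (op U)).hom : Set (𝒮.presheaf.obj (op U))) :=
    range_comap_of_surjective _ _ hsurj
  rw [hrange, hker]
  exact mem_vertexCompl _ p

theorem pointedCone_eq (h0 : RelCone.StrZeroBij 𝒮) (haug : RelCone.IsAugmentation 𝒮 aug)
    (ε : S ⟶ 𝒮.toQCAlg.spec) (hε : RelCone.IsVertex 𝒮 aug ε) :
    ((RelCone.pointedCone 𝒮 : 𝒮.toQCAlg.spec.Opens) : Set 𝒮.toQCAlg.spec) = (Set.range ε.base)ᶜ := by
  ext x
  obtain ⟨U, hU, hxU, -⟩ := exists_isAffineOpen_mem_and_subset (U := (⊤ : S.Opens))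
    (show 𝒮.toQCAlg.π x ∈ (⊤ : S.Opens) from trivial)
  have hx : x ∈ 𝒮.toQCAlg.π ⁻¹ᵁ U := hxU
  rw [𝒮.toQCAlg.π_preimage U hU] at hx
  obtain ⟨y, rfl⟩ := hx
  have h1 : 𝒮.toQCAlg.ι U hU y ∈ RelCone.pointedCone 𝒮 ↔ y ∈ RelCone.vertexCompl (𝒮.deg U hU) := by
    rw [← ι_preimage_pointedCone 𝒮 U hU]; rfl
  rw [SetLike.mem_coe, h1, mem_vertexCompl_iff_aug 𝒮 aug h0 haug U hU, Set.mem_compl_iff, not_iff_not]
  constructor
  · rintro ⟨q, rfl⟩
    exact ⟨hU.fromSpec q, congrArg (fun t : Spec Γ(S, U) ⟶ _ => t q) (hε.chart U hU)⟩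
  · rintro ⟨s, hs⟩
    have hsU : s ∈ U := by
      have h2 : (ε ≫ 𝒮.toQCAlg.π) s = s := by rw [hε.comp_π]; rfl
      rw [← h2]
      show 𝒮.toQCAlg.π (ε s) ∈ U
      rw [hs]
      exact hxU
    rw [← SetLike.mem_coe, ← hU.range_fromSpec] at hsU
    obtain ⟨q, rfl⟩ := hsU
    refine ⟨q, (𝒮.toQCAlg.ι U hU).isOpenEmbedding.injective ?_⟩
    exact (congrArg (fun t : Spec Γ(S, U) ⟶ _ => t q) (hε.chart U hU)).symm.trans hs

end Groth.Agent.RelSpecLib

end
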