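import Groth.Agent.RelSpecLib.SymData
import Groth.Prelude.Def_RelProj2
import Groth.Agent.ParaFLib.Gen

/-! The symmetric algebra of an invertible module over a trivialising affine open. -/

set_option autoImplicit false
set_option linter.style.haveILetI false
set_option backward.isDefEq.respectTransparency false

universe u

open CategoryTheory AlgebraicGeometry TopologicalSpace Opposite Polynomial
open Groth.Agent.ParaFLib
open scoped HomogeneousIdeal

noncomputable section

namespace Groth.Agent.RelSpecLib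

section general

variable {R : Type u} [CommRing R] {M : Type u} [AddCommGroup M] [Module R M] {e : M}

/-- On a free module of rank one, polynomials are the symmetric algebra. -/
theorem bijective_aeval_ι (he : Function.Bijective fun r : R => r • e) :
    Function.Bijective (Polynomial.aeval (SymmetricAlgebra.ι R M e) : R[X] →ₐ[R] SymmetricAlgebra R M) := by
  let c := LinearEquiv.ofBijective (LinearMap.toSpanSingleton R M e) he
  let π : SymmetricAlgebra R M →ₐ[R] R[X] :=
    SymmetricAlgebra.lift ((LinearMap.toSpanSingleton R R[X] X).comp (c.symm : M →ₗ[R] R))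
  have hce : c.symm e = 1 := c.injective (by rw [LinearEquiv.apply_symm_apply]; exact (one_smul R e).symm)
  have h1 : π (SymmetricAlgebra.ι R M e) = X := by
    rw [SymmetricAlgebra.lift_ι_apply, LinearMap.comp_apply, LinearEquiv.coe_coe, hce,
      LinearMap.toSpanSingleton_apply, one_smul]
  refine Function.bijective_iff_has_inverse.2 ⟨π, fun q => ?_, fun z => ?_⟩
  · exact congrArg (fun f : R[X] →ₐ[R] R[X] => f q)
      (Polynomial.algHom_ext (f := π.comp (Polynomial.aeval (SymmetricAlgebra.ι R M e))) (g := AlgHom.id R R[X])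
        (by rw [AlgHom.comp_apply, Polynomial.aeval_X, h1]; rfl))
  · refine congrArg (fun f : SymmetricAlgebra R M →ₐ[R] SymmetricAlgebra R M => f z)
      (SymmetricAlgebra.algHom_ext (F := (Polynomial.aeval (SymmetricAlgebra.ι R M e)).comp π)
        (G := AlgHom.id R _) (LinearMap.ext fun m => ?_))
    obtain ⟨r, rfl⟩ := he.2 m
    show Polynomial.aeval _ (π (SymmetricAlgebra.ι R M (r • e))) = SymmetricAlgebra.ι R M (r • e)
    rw [map_smul, map_smul, map_smul, h1, Polynomial.aeval_X]

end general

variable {S : Scheme.{u}} {L : S.Modules} {𝒮 : RelProj.QCGrAlg S} {j : L ⟶ 𝒮.toModule}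
  {V : S.Opens} (hV : IsAffineOpen V)

/-- The generator, in degree one. -/
def gen₁ (hj : RelProj.IsGrSymAlg L 𝒮 j) (e : Γ(L, V)) : 𝒮.deg V hV 1 := ⟨jsec 𝒮.toQCAlg j e, hj.2 V hV e⟩

variable (hj : RelProj.IsGrSymAlg L 𝒮 j) {e : Γ(L, V)} (he : Gen V e) [Coh.IsQCoh L]

theorem bijective_smul_of_gen {e : Γ(L, V)} (he : Gen V e) : Function.Bijective fun r : Γ(S, V) => r • e := by
  have h := he V le_rfl
  rwa [show (homOfLE (le_refl V)).op = 𝟙 (op V) from Subsingleton.elim _ _, L.presheaf.map_id] at h

include hV hj he in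
/-- Polynomials in the generator. -/
theorem bijective_eval₂ :
    Function.Bijective (Polynomial.eval₂RingHom (𝒮.str.app (op V)).hom (jsec 𝒮.toQCAlg j e)) := by
  have h : Polynomial.eval₂RingHom (𝒮.str.app (op V)).hom (jsec 𝒮.toQCAlg j e) =
      (symEval 𝒮.toQCAlg j V).comp
        (Polynomial.aeval (SymmetricAlgebra.ι Γ(S, V) Γ(L, V) e) : Γ(S, V)[X] →ₐ[Γ(S, V)] _).toRingHom := by
    refine Polynomial.ringHom_ext (fun r => ?_) ?_
    · rw [Polynomial.coe_eval₂RingHom, Polynomial.eval₂_C, RingHom.comp_apply]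
      show _ = symEval _ j V (Polynomial.aeval _ (C r))
      rw [Polynomial.aeval_C, symEval_algebraMap]
    · rw [Polynomial.coe_eval₂RingHom, Polynomial.eval₂_X, RingHom.comp_apply]
      show _ = symEval _ j V (Polynomial.aeval _ X)
      rw [Polynomial.aeval_X, symEval_ι]
  rw [h]
  exact (bijective_symEval L hj.1 hV).comp (bijective_aeval_ι (bijective_smul_of_gen he))

theorem str_mul_pow_mem (e : Γ(L, V)) (r : Γ(S, V)) (n : ℕ) :
    (𝒮.str.app (op V)).hom r * (gen₁ hV hj e).1 ^ n ∈ 𝒮.deg V hV n := by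
  have := SetLike.mul_mem_graded (𝒮.str_mem V hV r) (SetLike.pow_mem_graded n (gen₁ hV hj e).2)
  simpa using this

include he in
/-- `ê^n` is a basis of the degree-`n` part. -/
theorem existsUnique_coeff {n : ℕ} {a : 𝒮.presheaf.obj (op V)} (ha : a ∈ 𝒮.deg V hV n) :
    ∃! r : Γ(S, V), (𝒮.str.app (op V)).hom r * (gen₁ hV hj e).1 ^ n = a := by
  classical
  have hb := bijective_eval₂ hV hj he
  obtain ⟨q, hq⟩ := hb.2 a
  have hsum : a = ∑ k ∈ q.support, (𝒮.str.app (op V)).hom (q.coeff k) * (gen₁ hV hj e).1 ^ k := by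
    rw [← hq, Polynomial.coe_eval₂RingHom, Polynomial.eval₂_eq_sum]
    rfl
  refine ⟨q.coeff n, ?_, fun r hr => ?_⟩
  · have h := DirectSum.decompose_of_mem_same (𝒮.deg V hV) ha
    rw [hsum, DirectSum.decompose_sum, DFinsupp.finsetSum_apply, AddSubmonoidClass.coe_finsetSum,
      Finset.sum_eq_single n (fun k _ hk => DirectSum.decompose_of_mem_ne _ (str_mul_pow_mem hV hj e _ k) hk)
        (fun hn => by rw [Polynomial.notMem_support_iff.1 hn, map_zero, zero_mul]; simp),
      DirectSum.decompose_of_mem_same _ (str_mul_pow_mem hV hj e _ n)] at h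
    rw [← hsum] at h
    exact h
  · have h2 : Polynomial.eval₂RingHom (𝒮.str.app (op V)).hom (jsec 𝒮.toQCAlg j e) (C r * X ^ n) =
        (𝒮.str.app (op V)).hom r * (gen₁ hV hj e).1 ^ n := by
      rw [Polynomial.coe_eval₂RingHom, Polynomial.eval₂_mul, Polynomial.eval₂_C, Polynomial.eval₂_X_pow]
      rfl
    have h3 := hb.1 ((h2.trans hr).trans hq.symm)
    rw [← h3]
    simp

include he in
theorem str_mul_pow_injective (n : ℕ) :
    Function.Injective fun r : Γ(S, V) => (𝒮.str.app (op V)).hom r * (gen₁ hV hj e).1 ^ n := fun r r' h =>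
  (existsUnique_coeff hV hj he (str_mul_pow_mem hV hj e r n)).unique rfl h.symm

include he in
/-- The generator cuts out nothing on `Proj`. -/
theorem basicOpen_gen₁ : Proj.basicOpen (𝒮.deg V hV) (gen₁ hV hj e).1 = ⊤ := by
  refine eq_top_iff.2 fun x _ hm => ?_
  refine x.not_irrelevant_le ?_
  show (HomogeneousIdeal.irrelevant (𝒮.deg V hV)).toIdeal ≤ x.asHomogeneousIdeal.toIdeal
  intro a ha
  classical
  rw [← DirectSum.sum_support_decompose (𝒮.deg V hV) a]
  refine Ideal.sum_mem _ fun k _ => ?_
  rcases Nat.eq_zero_or_pos k with rfl | hk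
  · rw [show (DirectSum.decompose (𝒮.deg V hV) a 0 : 𝒮.presheaf.obj (op V)) = 0 from
      (HomogeneousIdeal.mem_irrelevant_iff _ a).1 ha]
    exact zero_mem _
  · obtain ⟨r, hr, -⟩ := existsUnique_coeff hV hj he (SetLike.coe_mem (DirectSum.decompose (𝒮.deg V hV) a k))
    rw [← hr]
    exact Ideal.mul_mem_left _ _ (Ideal.pow_mem_of_mem _ hm _ hk)

include he in
/-- `Proj Sym L` is the base over a trivialising open. -/
theorem bijective_fromZero :
    Function.Bijective ((HomogeneousLocalization.fromZeroRingHom (𝒮.deg V hV)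
      (Submonoid.powers (gen₁ hV hj e).1)).comp (𝒮.strZero V hV).hom) := by
  have hval : ∀ r : Γ(S, V), (HomogeneousLocalization.fromZeroRingHom (𝒮.deg V hV)
      (Submonoid.powers (gen₁ hV hj e).1) ((𝒮.strZero V hV).hom r)).val =
      Localization.mk ((𝒮.str.app (op V)).hom r) 1 := fun r => rfl
  refine ⟨fun r r' h => ?_, fun z => ?_⟩
  · have h' := congrArg HomogeneousLocalization.val h
    rw [RingHom.comp_apply, RingHom.comp_apply, hval, hval, Localization.mk_eq_mk_iff,
      Localization.r_iff_exists] at h'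
    obtain ⟨⟨_, k, rfl⟩, hk⟩ := h'
    refine str_mul_pow_injective hV hj he k ?_
    simpa [mul_comm] using hk
  · obtain ⟨n, a, ha, rfl⟩ := HomogeneousLocalization.Away.mk_surjective _ (gen₁ hV hj e).2 z
    obtain ⟨r, hr, -⟩ := existsUnique_coeff hV hj he (n := n) (a := a) (by simpa using ha)
    refine ⟨r, HomogeneousLocalization.val_injective _ ?_⟩
    rw [RingHom.comp_apply, hval, HomogeneousLocalization.Away.val_mk, Localization.mk_eq_mk_iff,
      Localization.r_iff_exists]
    refine ⟨1, ?_⟩
    simp only [OneMemClass.coe_one, one_mul, ← hr]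
    ring

end Groth.Agent.RelSpecLib
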