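import Mathlib
import Groth.Prelude.Def_RelSpec2
import Groth.Agent.RelSpecLib.Cone

set_option autoImplicit false
set_option backward.isDefEq.respectTransparency false
set_option backward.defeqAttrib.useBackward true
set_option linter.style.haveILetI false

/-!
# The pointed projective cone
-/

universe u

open CategoryTheory AlgebraicGeometry TopologicalSpace Opposite
open scoped HomogeneousIdeal

noncomputable section

namespace Groth.Agent.RelSpecLib

variable {S : Scheme.{u}} {𝒮 𝒮h : RelProj.QCGrAlg S} {ι : 𝒮.toQCAlg ⟶ 𝒮h.toQCAlg}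
  {z : 𝒮h.presheaf.obj (op ⊤)} (hz : RelCone.IsPolyOver 𝒮 𝒮h ι z)
  (U : S.Opens) (hU : IsAffineOpen U)

include hz

theorem exists_decomp {b : 𝒮h.presheaf.obj (op U)} {k : ℕ} (hb : b ∈ 𝒮h.deg U hU k) :
    ∃ c : ℕ → 𝒮.presheaf.obj (op U), (∀ j, c j ∈ 𝒮.deg U hU (k - j)) ∧
      b = ∑ j ∈ Finset.range (k + 1), (ι.hom.app (op U)).hom (c j) * (RelCone.restrictTop 𝒮h z U) ^ j := by
  classical
  obtain ⟨P, hP⟩ := (hz.bij U hU).2 b
  refine ⟨fun j => (DirectSum.decompose (𝒮.deg U hU) (P.coeff j) (k - j) : 𝒮.presheaf.obj (op U)),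
    fun j => SetLike.coe_mem _, ?_⟩
  set N := max (k + 1) (P.natDegree + 1) with hN
  have hsum : b = ∑ j ∈ Finset.range N, (ι.hom.app (op U)).hom (P.coeff j) * (RelCone.restrictTop 𝒮h z U) ^ j := by
    rw [← hP]
    exact Polynomial.eval₂_eq_sum_range' _ (by omega) _
  have h1 : b = ((DirectSum.decompose (𝒮h.deg U hU) b) k : 𝒮h.presheaf.obj (op U)) :=
    (DirectSum.decompose_of_mem_same _ hb).symm
  rw [h1]
  conv_lhs => rw [hsum, DirectSum.decompose_sum, DFinsupp.finsetSum_apply, AddSubmonoidClass.coe_finsetSum]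
  have hzj : ∀ j, (RelCone.restrictTop 𝒮h z U) ^ j ∈ 𝒮h.deg U hU j := fun j => by
    simpa using SetLike.pow_mem_graded j (hz.deg_z U hU)
  have hterm : ∀ j, ((DirectSum.decompose (𝒮h.deg U hU) ((ι.hom.app (op U)).hom (P.coeff j) * (RelCone.restrictTop 𝒮h z U) ^ j)) k :
      𝒮h.presheaf.obj (op U)) =
      if j ≤ k then (ι.hom.app (op U)).hom (DirectSum.decompose (𝒮.deg U hU) (P.coeff j) (k - j) : 𝒮.presheaf.obj (op U)) * (RelCone.restrictTop 𝒮h z U) ^ j
      else 0 := by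
    intro j
    rw [DirectSum.coe_decompose_mul_of_right_mem (𝒮h.deg U hU) k (hzj j)]
    split_ifs with h
    · congr 1
      exact ((RelProj.gradedHomAt ι hz.graded U hU).map_directSumDecompose).symm
    · rfl
  rw [Finset.sum_congr rfl fun j _ => hterm j, ← Finset.sum_filter]
  refine Finset.sum_congr ?_ fun _ _ => rfl
  ext j
  simp only [Finset.mem_filter, Finset.mem_range]
  omega

theorem evalOne_mul_pow (a : 𝒮.presheaf.obj (op U)) (j : ℕ) :
    hz.evalOne U hU ((ι.hom.app (op U)).hom a * (RelCone.restrictTop 𝒮h z U) ^ j) = a := by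
  rw [map_mul, map_pow, hz.evalOne_z, hz.evalOne_ι, one_pow, mul_one]

variable (aug : 𝒮.toQCAlg ⟶ RelSpec.QCAlg.unit S) (h0 : RelCone.StrZeroBij 𝒮)
  (haug : RelCone.IsAugmentation 𝒮 aug)

include h0 haug in
/-- A homogeneous element is congruent to `str(aug) z^k` modulo `ι(S₊)`. -/
theorem homogeneous_congr {b : 𝒮h.presheaf.obj (op U)} {k : ℕ} (hb : b ∈ 𝒮h.deg U hU k)
    (I : Ideal (𝒮h.presheaf.obj (op U))) (hI : ∀ a ∈ ((𝒮.deg U hU)₊).toIdeal, (ι.hom.app (op U)).hom a ∈ I) :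
    b - (ι.hom.app (op U)).hom ((𝒮.str.app (op U)).hom ((aug.hom.app (op U)).hom (hz.evalOne U hU b))) * (RelCone.restrictTop 𝒮h z U) ^ k ∈ I := by
  obtain ⟨c, hc, rfl⟩ := exists_decomp hz U hU hb
  rw [map_sum, map_sum, Finset.sum_range_succ, Finset.sum_range_succ (n := k)]
  have hpos : ∀ j ∈ Finset.range k, c j ∈ ((𝒮.deg U hU)₊).toIdeal := fun j hj =>
    HomogeneousIdeal.mem_irrelevant_of_mem _ (Nat.sub_pos_of_lt (Finset.mem_range.mp hj)) (hc j)
  have haug0 : ∀ j ∈ Finset.range k, (aug.hom.app (op U)).hom (hz.evalOne U hU ((ι.hom.app (op U)).hom (c j) * (RelCone.restrictTop 𝒮h z U) ^ j)) = 0 := by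
    intro j hj
    rw [evalOne_mul_pow hz U hU]
    obtain ⟨d, hd⟩ : ∃ d, k - j = d + 1 := ⟨k - j - 1, by have := Finset.mem_range.mp hj; omega⟩
    exact haug U hU d _ (hd ▸ hc j)
  rw [Finset.sum_eq_zero haug0, zero_add, evalOne_mul_pow hz U hU]
  obtain ⟨r, hr⟩ := (h0 U hU).2 ⟨c k, by have := hc k; rwa [Nat.sub_self] at this⟩
  have hr' : (𝒮.str.app (op U)).hom r = c k := congrArg Subtype.val hr
  rw [← hr', aug_str, add_sub_cancel_right]
  exact Ideal.sum_mem _ fun j hj => Ideal.mul_mem_right _ _ (hI _ (hpos j hj))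

theorem mem_awayι_apply (p : Spec (𝒮.presheaf.obj (op U))) {b : 𝒮h.presheaf.obj (op U)} {k : ℕ}
    (hb : b ∈ 𝒮h.deg U hU k) :
    b ∈ ((Proj.awayι (𝒮h.deg U hU) (RelCone.restrictTop 𝒮h z U) (hz.deg_z U hU) one_pos)
        (Spec.map (CommRingCat.ofHom (hz.awayZToBase U hU)) p)).asHomogeneousIdeal ↔
      hz.evalOne U hU b ∈ p.asIdeal := by
  set P := Spec.map (CommRingCat.ofHom (hz.awayZToBase U hU)) p with hP
  set x := (Proj.awayι (𝒮h.deg U hU) (RelCone.restrictTop 𝒮h z U) (hz.deg_z U hU) one_pos) P with hx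
  have hzx : (RelCone.restrictTop 𝒮h z U) ∉ x.asHomogeneousIdeal := by
    have : x ∈ (Proj.awayι (𝒮h.deg U hU) (RelCone.restrictTop 𝒮h z U) (hz.deg_z U hU) one_pos).opensRange := ⟨P, rfl⟩
    rw [Proj.opensRange_awayι] at this
    exact this
  have hbz : b * (RelCone.restrictTop 𝒮h z U) ∈ 𝒮h.deg U hU (k + 1) := SetLike.mul_mem_graded hb (hz.deg_z U hU)
  have h1 := Proj.awayι_preimage_basicOpen (𝒮h.deg U hU) (hz.deg_z U hU) one_pos hbz (Nat.succ_pos k)
  have h2 : (b * (RelCone.restrictTop 𝒮h z U) ∉ x.asHomogeneousIdeal) ↔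
      HomogeneousLocalization.Away.isLocalizationElem (hz.deg_z U hU) hbz ∉ P.asIdeal :=
    SetLike.ext_iff.mp h1 P
  have hmul : b * (RelCone.restrictTop 𝒮h z U) ∈ x.asHomogeneousIdeal ↔ b ∈ x.asHomogeneousIdeal :=
    ⟨fun h => (x.isPrime.mem_or_mem h).resolve_right hzx, fun h => Ideal.mul_mem_right (RelCone.restrictTop 𝒮h z U) x.asHomogeneousIdeal.toIdeal h⟩
  have h3 : hz.awayZToBase U hU (HomogeneousLocalization.Away.isLocalizationElem (hz.deg_z U hU) hbz) =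
      hz.evalOne U hU b := by
    rw [hz.awayZToBase_of_val U hU _ ((b * (RelCone.restrictTop 𝒮h z U)) ^ 1) (k + 1) (HomogeneousLocalization.Away.val_mk _ _ _ _ _), pow_one,
      map_mul, hz.evalOne_z, mul_one]
  rw [← hmul, ← not_iff_not, h2, not_iff_not, ← h3]
  exact Iff.rfl

theorem mem_awayι_ιU (p : Spec (𝒮.presheaf.obj (op U))) {a : 𝒮.presheaf.obj (op U)}
    (ha : a ∈ ((𝒮.deg U hU)₊).toIdeal) (hp : ((𝒮.deg U hU)₊).toIdeal ≤ p.asIdeal) :
    (ι.hom.app (op U)).hom a ∈ ((Proj.awayι (𝒮h.deg U hU) (RelCone.restrictTop 𝒮h z U) (hz.deg_z U hU) one_pos)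
        (Spec.map (CommRingCat.ofHom (hz.awayZToBase U hU)) p)).asHomogeneousIdeal := by
  classical
  rw [← DirectSum.sum_support_decompose (𝒮.deg U hU) a, map_sum]
  refine Ideal.sum_mem _ fun i _ => ?_
  refine (mem_awayι_apply hz U hU p (hz.graded U hU i _ (SetLike.coe_mem _))).mpr ?_
  rw [hz.evalOne_ι]
  exact hp (((𝒮.deg U hU)₊).isHomogeneous i ha)

include h0 haug in
theorem not_mem_domOpen_iff (x : Proj (𝒮h.deg U hU)) :
    x ∉ RelCone.domOpen (RelProj.gradedHomAt ι hz.graded U hU) ↔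
      ∃ p ∈ Set.range (Spec.map (aug.hom.app (op U))),
        x = (Proj.awayι (𝒮h.deg U hU) (RelCone.restrictTop 𝒮h z U) (hz.deg_z U hU) one_pos)
          (Spec.map (CommRingCat.ofHom (hz.awayZToBase U hU)) p) := by
  classical
  rw [RelCone.mem_domOpen]
  push Not
  constructor
  · intro hx
    have hI : ∀ a ∈ ((𝒮.deg U hU)₊).toIdeal, (ι.hom.app (op U)).hom a ∈ x.asHomogeneousIdeal.toIdeal := hx
    have hzx : (RelCone.restrictTop 𝒮h z U) ∉ x.asHomogeneousIdeal.toIdeal := by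
      intro hzx
      refine x.not_irrelevant_le ((HomogeneousIdeal.irrelevant_le _).mpr fun i hi b hb => ?_)
      have h := homogeneous_congr hz U hU aug h0 haug hb x.asHomogeneousIdeal.toIdeal hI
      have h' := Ideal.add_mem _ h (Ideal.mul_mem_left _ ((ι.hom.app (op U)).hom ((𝒮.str.app (op U)).hom
        ((aug.hom.app (op U)).hom (hz.evalOne U hU b)))) (Ideal.pow_mem_of_mem _ hzx i hi))
      rwa [sub_add_cancel] at h'
    haveI := x.isPrime
    let q : Spec Γ(S, U) := ⟨Ideal.comap (((ι.hom.app (op U)).hom).comp (𝒮.str.app (op U)).hom) x.asHomogeneousIdeal.toIdeal,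
      inferInstance⟩
    refine ⟨Spec.map (aug.hom.app (op U)) q, ⟨q, rfl⟩, ?_⟩
    set y := (Proj.awayι (𝒮h.deg U hU) (RelCone.restrictTop 𝒮h z U) (hz.deg_z U hU) one_pos)
      (Spec.map (CommRingCat.ofHom (hz.awayZToBase U hU)) (Spec.map (aug.hom.app (op U)) q))
    have key : ∀ (k : ℕ) (b : 𝒮h.presheaf.obj (op U)), b ∈ 𝒮h.deg U hU k →
        (b ∈ x.asHomogeneousIdeal.toIdeal ↔ b ∈ y.asHomogeneousIdeal.toIdeal) := by
      intro k b hb
      have h := homogeneous_congr hz U hU aug h0 haug hb x.asHomogeneousIdeal.toIdeal hI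
      refine Iff.trans ?_ (mem_awayι_apply hz U hU _ hb).symm
      show _ ↔ (ι.hom.app (op U)).hom ((𝒮.str.app (op U)).hom ((aug.hom.app (op U)).hom (hz.evalOne U hU b))) ∈
        x.asHomogeneousIdeal.toIdeal
      constructor
      · intro hbx
        have h1 := Ideal.sub_mem _ hbx h
        rw [sub_sub_cancel] at h1
        exact (x.isPrime.mem_or_mem h1).resolve_right fun h2 => hzx (x.isPrime.mem_of_pow_mem k h2)
      · intro h1
        have h2 := Ideal.add_mem _ h (Ideal.mul_mem_right ((RelCone.restrictTop 𝒮h z U) ^ k) _ h1)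
        rwa [sub_add_cancel] at h2
    apply ProjectiveSpectrum.ext
    apply HomogeneousIdeal.toIdeal_injective
    ext b
    constructor <;> intro hb <;> rw [← DirectSum.sum_support_decompose (𝒮h.deg U hU) b] <;>
      refine Ideal.sum_mem _ fun i _ => ?_
    · exact (key i _ (SetLike.coe_mem _)).mp (x.asHomogeneousIdeal.isHomogeneous i hb)
    · exact (key i _ (SetLike.coe_mem _)).mpr (y.asHomogeneousIdeal.isHomogeneous i hb)
  · rintro ⟨p, hp, rfl⟩ a ha
    refine mem_awayι_ιU hz U hU p ha ?_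
    have h := (mem_vertexCompl_iff_aug 𝒮 aug h0 haug U hU p).not.mpr (not_not.mpr hp)
    rw [mem_vertexCompl, not_not] at h
    exact h

variable {PC : Scheme.{u}} {pC : PC ⟶ S}
  {chartC : ∀ (U : S.Opens) (hU : IsAffineOpen U), (((pC ⁻¹ᵁ U : PC.Opens) : Scheme.{u}) ≅ Proj (𝒮h.deg U hU))}

theorem coneImm_π (hPC : RelProj.IsRelProj 𝒮h pC chartC) {i : 𝒮.toQCAlg.spec ⟶ PC}
    (hi : RelCone.IsConeImm 𝒮 hz pC chartC i) : i ≫ pC = 𝒮.toQCAlg.π := by
  refine hom_ext 𝒮.toQCAlg.π fun U hU => ?_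
  have h : 𝒮.toQCAlg.ι U hU ≫ i ≫ pC = 𝒮.toQCAlg.ι U hU ≫ 𝒮.toQCAlg.π := by
    rw [reassoc_of% hi U hU, RelProj.emb, Category.assoc, ← hPC.chart_over U hU, Iso.inv_hom_id_assoc,
      Proj.awayι_toSpecZero_assoc, 𝒮.toQCAlg.ι_π U hU, ← Spec.map_comp_assoc, ← Spec.map_comp_assoc]
    congr 2
    ext r
    show hz.awayZToBase U hU (HomogeneousLocalization.fromZeroRingHom (𝒮h.deg U hU) _
      ((𝒮h.strZero U hU).hom r)) = (𝒮.str.app (op U)).hom r
    rw [hz.awayZToBase_of_val U hU _ ((𝒮h.str.app (op U)).hom r) 0]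
    · have e : (ι.hom.app (op U)).hom ((𝒮.str.app (op U)).hom r) = (𝒮h.str.app (op U)).hom r :=
        congrArg (fun t : S.presheaf.obj (op U) ⟶ 𝒮h.presheaf.obj (op U) => t.hom r)
          (NatTrans.congr_app ι.comm (op U))
      rw [← e, hz.evalOne_ι]
    · simp only [pow_zero]
      rfl
  rw [ι_eq 𝒮.toQCAlg U hU, IsAffineOpen.fromSpec] at h
  simp only [Category.assoc] at h
  haveI : IsIso (𝒮.toQCAlg.gammaAff U hU) := SpecQCAlg.isIso_gammaAff 𝒮.toQCAlg U hU
  rw [cancel_epi, cancel_epi] at h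
  exact h

include h0 haug in
theorem pointedProjCone_eq (hPC : RelProj.IsRelProj 𝒮h pC chartC) {ε : S ⟶ 𝒮.toQCAlg.spec}
    (hε : RelCone.IsVertex 𝒮 aug ε) {i : 𝒮.toQCAlg.spec ⟶ PC}
    (hi : RelCone.IsConeImm 𝒮 hz pC chartC i) :
    ((RelCone.pointedProjCone 𝒮 hz pC chartC : PC.Opens) : Set PC) = (Set.range (ε ≫ i).base)ᶜ := by
  have hsec : (ε ≫ i) ≫ pC = 𝟙 S := by rw [Category.assoc, coneImm_π hz hPC hi, hε.comp_π]
  have himg : ∀ (V : S.Opens) (hV : IsAffineOpen V) (q : Spec Γ(S, V)),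
      (ε ≫ i) (hV.fromSpec q) = RelProj.emb pC chartC V hV
        ((Proj.awayι (𝒮h.deg V hV) (RelCone.restrictTop 𝒮h z V) (hz.deg_z V hV) one_pos)
          (Spec.map (CommRingCat.ofHom (hz.awayZToBase V hV)) (Spec.map (aug.hom.app (op V)) q))) := by
    intro V hV q
    have h : hV.fromSpec ≫ ε ≫ i = Spec.map (aug.hom.app (op V)) ≫
        Spec.map (CommRingCat.ofHom (hz.awayZToBase V hV)) ≫
          Proj.awayι (𝒮h.deg V hV) (RelCone.restrictTop 𝒮h z V) (hz.deg_z V hV) one_pos ≫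
            RelProj.emb pC chartC V hV := by
      rw [reassoc_of% hε.chart V hV, hi V hV]
    exact congrArg (fun t : Spec Γ(S, V) ⟶ PC => t q) h
  have hinV : ∀ (V : S.Opens) (hV : IsAffineOpen V) (x : Proj (𝒮h.deg V hV)),
      pC (RelProj.emb pC chartC V hV x) ∈ V := fun V hV x => ((chartC V hV).inv x).2
  have hiff : ∀ (V : S.Opens) (hV : IsAffineOpen V) (x : Proj (𝒮h.deg V hV)),
      RelProj.emb pC chartC V hV x ∈ Set.range (ε ≫ i).base ↔
        x ∉ RelCone.domOpen (RelProj.gradedHomAt ι hz.graded V hV) := by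
    intro V hV x
    rw [not_mem_domOpen_iff hz V hV aug h0 haug]
    constructor
    · rintro ⟨s, hs⟩
      have hsV : s ∈ V := by
        have h2 : pC ((ε ≫ i) s) = s := congrArg (fun t : S ⟶ S => t s) hsec
        rw [← h2]
        exact (congrArg (fun t => pC t ∈ V) hs).mpr (hinV V hV x)
      rw [← SetLike.mem_coe, ← hV.range_fromSpec] at hsV
      obtain ⟨q, rfl⟩ := hsV
      refine ⟨_, ⟨q, rfl⟩, (RelProj.emb pC chartC V hV).isOpenEmbedding.injective ?_⟩
      exact hs.symm.trans (himg V hV q)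
    · rintro ⟨p, ⟨q, rfl⟩, rfl⟩
      exact ⟨hV.fromSpec q, himg V hV q⟩
  ext y
  obtain ⟨V, hV, hyV, -⟩ := exists_isAffineOpen_mem_and_subset (U := (⊤ : S.Opens))
    (show pC y ∈ (⊤ : S.Opens) from trivial)
  constructor
  · intro hy
    obtain ⟨W, x, hx, rfl⟩ := Opens.mem_iSup.mp hy
    exact fun h => (hiff W.1 W.2 x).mp h hx
  · intro hy
    obtain ⟨x, hx⟩ : ∃ x, RelProj.emb pC chartC V hV x = y := by
      refine ⟨(chartC V hV).hom ⟨y, hyV⟩, ?_⟩
      show ((chartC V hV).inv ≫ (pC ⁻¹ᵁ V).ι) ((chartC V hV).hom ⟨y, hyV⟩) = y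
      rw [← Scheme.Hom.comp_apply, ← Category.assoc, Iso.hom_inv_id, Category.id_comp]
      rfl
    subst hx
    exact Opens.mem_iSup.mpr ⟨⟨V, hV⟩, x, by_contra fun h => hy ((hiff V hV x).mpr h), rfl⟩

end Groth.Agent.RelSpecLib

end
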