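import Mathlib
import Groth.Prelude.Def_RelSpec2
import Groth.Agent.RelSpecLib.Basic
import Groth.Agent.RelSpecLib.ProjCone
import Groth.Agent.RelProjLib.QMap

set_option autoImplicit false
set_option linter.style.haveILetI false
set_option linter.unusedVariables false
set_option backward.isDefEq.respectTransparency false
set_option backward.defeqAttrib.useBackward true

/-!
# Morphisms out of a relative spectrum given chartwise, and the canonical open immersion of the affine cone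
-/

universe u

open CategoryTheory CategoryTheory.Limits AlgebraicGeometry TopologicalSpace Opposite
open scoped HomogeneousIdeal

noncomputable section

namespace Groth.Agent.RelSpecLib

section desc

variable {S : Scheme.{u}} (A : RelSpec.QCAlg S) {T : Scheme.{u}}

theorem mem_range_ι (x : A.spec) (U : S.Opens) (hU : IsAffineOpen U) (hx : A.π x ∈ U) :
    x ∈ Set.range (A.ι U hU).base := by
  have h : x ∈ Set.range (isAffineOpen_preimage A U hU).fromSpec := by
    rw [IsAffineOpen.range_fromSpec]; exact hx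
  obtain ⟨w, hw⟩ := h
  haveI := Groth.Agent.SpecQCAlg.isIso_gammaAff A U hU
  refine ⟨inv (Spec.map (A.gammaAff U hU)) w, ?_⟩
  rw [ι_eq A U hU, ← Scheme.Hom.comp_apply, IsIso.inv_hom_id_assoc]
  exact hw

theorem π_ι_mem (U : S.Opens) (hU : IsAffineOpen U) (y : Spec (A.presheaf.obj (op U))) :
    A.π (A.ι U hU y) ∈ U := by
  rw [← Scheme.Hom.comp_apply, A.ι_π U hU, ← SetLike.mem_coe, ← hU.range_fromSpec]
  exact ⟨_, rfl⟩

instance isOpenImmersion_ι (U : S.Opens) (hU : IsAffineOpen U) : IsOpenImmersion (A.ι U hU) := by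
  haveI := Groth.Agent.SpecQCAlg.isIso_gammaAff A U hU
  rw [ι_eq A U hU]
  infer_instance

/-- The affine charts of `Spec(A)`. -/
def chartCover : A.spec.OpenCover :=
  Scheme.Cover.mkOfCovers S.affineOpens (fun U => Spec (A.presheaf.obj (op U.1))) (fun U => A.ι U.1 U.2)
    (fun x => by
      obtain ⟨U, hU, hxU, -⟩ := exists_isAffineOpen_mem_and_subset (U := (⊤ : S.Opens))
        (show A.π x ∈ (⊤ : S.Opens) from trivial)
      obtain ⟨y, hy⟩ := mem_range_ι A x U hU hxU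
      exact ⟨⟨U, hU⟩, y, hy⟩)
    (fun U => isOpenImmersion_ι A U.1 U.2)

theorem chart_hom_ext {i i' : A.spec ⟶ T}
    (h : ∀ (U : S.Opens) (hU : IsAffineOpen U), A.ι U hU ≫ i = A.ι U hU ≫ i') : i = i' :=
  (chartCover A).hom_ext _ _ fun U => h U.1 U.2

/-- A morphism out of `Spec(A)` may be given on the charts, compatibly with restriction to basic opens. -/
theorem existsUnique_desc (f : ∀ (U : S.Opens) (hU : IsAffineOpen U), Spec (A.presheaf.obj (op U)) ⟶ T)
    (hf : ∀ (U : S.Opens) (hU : IsAffineOpen U) (r : Γ(S, U)),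
      Spec.map (A.presheaf.map (homOfLE (S.basicOpen_le r)).op) ≫ f U hU = f (S.basicOpen r) (hU.basicOpen r)) :
    ∃! i : A.spec ⟶ T, ∀ (U : S.Opens) (hU : IsAffineOpen U), A.ι U hU ≫ i = f U hU := by
  have compat : ∀ (U V : S.affineOpens),
      pullback.fst (A.ι U.1 U.2) (A.ι V.1 V.2) ≫ f U.1 U.2 =
        pullback.snd (A.ι U.1 U.2) (A.ι V.1 V.2) ≫ f V.1 V.2 := by
    intro U V
    set a := pullback.fst (A.ι U.1 U.2) (A.ι V.1 V.2)
    set b := pullback.snd (A.ι U.1 U.2) (A.ι V.1 V.2)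
    have hab : a ≫ A.ι U.1 U.2 = b ≫ A.ι V.1 V.2 := pullback.condition
    have hpt : ∀ w : ↥(pullback (A.ι U.1 U.2) (A.ι V.1 V.2)), ∃ (r : Γ(S, U.1)) (s : Γ(S, V.1)),
        S.basicOpen r = S.basicOpen s ∧ A.π (A.ι U.1 U.2 (a w)) ∈ S.basicOpen r := by
      intro w
      have h1 : A.π (A.ι U.1 U.2 (a w)) ∈ U.1 := π_ι_mem A U.1 U.2 _
      have h2 : A.π (A.ι U.1 U.2 (a w)) ∈ V.1 := by
        rw [← Scheme.Hom.comp_apply a (A.ι U.1 U.2), hab]
        exact π_ι_mem A V.1 V.2 _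
      obtain ⟨r, s, e, hmem⟩ := exists_basicOpen_le_affine_inter U.2 V.2 _ ⟨h1, h2⟩
      exact ⟨r, s, e, hmem⟩
    choose r s e hmem using hpt
    let O : ∀ w, (pullback (A.ι U.1 U.2) (A.ι V.1 V.2)).Opens := fun w =>
      (a ≫ A.ι U.1 U.2 ≫ A.π) ⁻¹ᵁ S.basicOpen (r w)
    refine (Scheme.openCoverOfIsOpenCover _ O (eq_top_iff.2 fun w _ =>
      Opens.mem_iSup.2 ⟨w, hmem w⟩)).hom_ext _ _ fun w => ?_
    change (O w).ι ≫ a ≫ f U.1 U.2 = (O w).ι ≫ b ≫ f V.1 V.2
    have hD : IsAffineOpen (S.basicOpen (r w)) := U.2.basicOpen (r w)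
    let l := IsOpenImmersion.lift (A.ι _ hD) ((O w).ι ≫ a ≫ A.ι U.1 U.2) (by
      rintro _ ⟨t, rfl⟩
      exact mem_range_ι A _ _ hD t.2)
    have hl : l ≫ A.ι _ hD = (O w).ι ≫ a ≫ A.ι U.1 U.2 := IsOpenImmersion.lift_fac _ _ _
    have hl' : l ≫ Spec.map (A.presheaf.map (homOfLE (S.basicOpen_le (r w))).op) = (O w).ι ≫ a := by
      rw [← cancel_mono (A.ι U.1 U.2), Category.assoc, Category.assoc, ι_res A U.2 hD, hl]
    have hDV : S.basicOpen (r w) ≤ V.1 := (e w).le.trans (S.basicOpen_le (s w))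
    have hl'' : l ≫ Spec.map (A.presheaf.map (homOfLE hDV).op) = (O w).ι ≫ b := by
      rw [← cancel_mono (A.ι V.1 V.2), Category.assoc, Category.assoc, ι_res A V.2 hD, hl, hab]
    have hfV : ∀ (D : S.Opens) (hD : IsAffineOpen D) (hDV : D ≤ V.1), D = S.basicOpen (s w) →
        Spec.map (A.presheaf.map (homOfLE hDV).op) ≫ f V.1 V.2 = f D hD := by
      rintro _ _ _ rfl
      exact hf V.1 V.2 (s w)
    rw [← reassoc_of% hl', ← reassoc_of% hl'', hf U.1 U.2 (r w), hfV _ hD hDV (e w)]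
  refine ⟨(chartCover A).glueMorphisms (fun U => f U.1 U.2) compat,
    fun U hU => (chartCover A).ι_glueMorphisms _ compat ⟨U, hU⟩, fun i hi => ?_⟩
  exact (chartCover A).hom_ext _ _ fun U =>
    (hi U.1 U.2).trans ((chartCover A).ι_glueMorphisms _ compat U).symm

end desc

section coneImm

variable {S : Scheme.{u}} {𝒮 𝒮h : RelProj.QCGrAlg S} {ι : 𝒮.toQCAlg ⟶ 𝒮h.toQCAlg}
  {z : 𝒮h.presheaf.obj (op ⊤)} (hz : RelCone.IsPolyOver 𝒮 𝒮h ι z) (U : S.Opens) (hU : IsAffineOpen U)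

/-- Any homomorphism with the rule `ι(x)/z^k ↦ x` is `awayZToBase`. -/
theorem eq_awayZToBase (θ : HomogeneousLocalization.Away (𝒮h.deg U hU) (RelCone.restrictTop 𝒮h z U) →+* 𝒮.presheaf.obj (op U))
    (hθ : ∀ (q : HomogeneousLocalization.Away (𝒮h.deg U hU) (RelCone.restrictTop 𝒮h z U))
      (k : ℕ) (x : 𝒮.presheaf.obj (op U)), x ∈ 𝒮.deg U hU k →
        q.val = Localization.mk ((ι.hom.app (op U)).hom x)
          ⟨RelCone.restrictTop 𝒮h z U ^ k, pow_mem (Submonoid.mem_powers _) k⟩ → θ q = x) :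
    θ = hz.awayZToBase U hU := by
  refine RingHom.ext fun q => ?_
  obtain ⟨k, b, hb, rfl⟩ := HomogeneousLocalization.Away.mk_surjective _ (hz.deg_z U hU) q
  obtain ⟨c, hc, hbc⟩ := exists_decomp hz U hU (b := b) (k := k) (by simpa using hb)
  let z₀ := RelCone.restrictTop 𝒮h z U
  let qj : ℕ → HomogeneousLocalization.Away (𝒮h.deg U hU) z₀ := fun j =>
    HomogeneousLocalization.Away.mk _ (hz.deg_z U hU) (k - j) ((ι.hom.app (op U)).hom (c j))
      (by simpa using hz.graded U hU _ _ (hc j))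
  have hsum : HomogeneousLocalization.Away.mk _ (hz.deg_z U hU) k b hb = ∑ j ∈ Finset.range (k + 1), qj j := by
    refine HomogeneousLocalization.val_injective _ ?_
    show _ = algebraMap _ (Localization (Submonoid.powers z₀)) (∑ j ∈ _, qj j)
    rw [map_sum, HomogeneousLocalization.Away.val_mk, hbc, Localization.mk_sum]
    refine Finset.sum_congr rfl fun j hj => ?_
    rw [HomogeneousLocalization.algebraMap_apply, HomogeneousLocalization.Away.val_mk,
      Localization.mk_eq_mk_iff, Localization.r_iff_exists]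
    refine ⟨1, ?_⟩
    have hjk : j ≤ k := Nat.le_of_lt_succ (Finset.mem_range.mp hj)
    show (1 : 𝒮h.presheaf.obj (op U)) * (z₀ ^ (k - j) * ((ι.hom.app (op U)).hom (c j) * z₀ ^ j)) =
      1 * (z₀ ^ k * (ι.hom.app (op U)).hom (c j))
    conv_rhs => rw [← Nat.sub_add_cancel hjk, pow_add]
    ring
  rw [hsum, map_sum, map_sum]
  refine Finset.sum_congr rfl fun j hj => ?_
  rw [hθ (qj j) (k - j) (c j) (hc j) (HomogeneousLocalization.Away.val_mk _ _ _ _ _),
    hz.awayZToBase_of_val U hU (qj j) _ (k - j) (HomogeneousLocalization.Away.val_mk _ _ _ _ _), hz.evalOne_ι]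

theorem awayZToBase_bijective : Function.Bijective (hz.awayZToBase U hU) := by
  classical
  constructor
  · rw [injective_iff_map_eq_zero]
    intro q hq
    obtain ⟨k, b, hb, rfl⟩ := HomogeneousLocalization.Away.mk_surjective _ (hz.deg_z U hU) q
    rw [hz.awayZToBase_of_val U hU _ b k (HomogeneousLocalization.Away.val_mk _ _ _ _ _)] at hq
    obtain ⟨c, hc, hbc⟩ := exists_decomp hz U hU (b := b) (k := k) (by simpa using hb)
    rw [hbc, map_sum] at hq
    simp only [evalOne_mul_pow hz U hU] at hq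
    have hcj : ∀ j ∈ Finset.range (k + 1), c j = 0 := by
      intro j hj
      have h := congrArg (GradedRing.proj (𝒮.deg U hU) (k - j)) hq
      rw [map_sum, map_zero, Finset.sum_eq_single j] at h
      · rwa [GradedRing.proj_apply, DirectSum.decompose_of_mem_same _ (hc j)] at h
      · intro j' hj' hne
        have hne' : k - j' ≠ k - j := by
          have := Finset.mem_range.mp hj
          have := Finset.mem_range.mp hj'
          omega
        exact (GradedRing.proj_apply _ _ _).trans (DirectSum.decompose_of_mem_ne _ (hc j') hne')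
      · exact fun h' => absurd hj h'
    have hb0 : b = 0 := by
      rw [hbc]
      exact Finset.sum_eq_zero fun j hj => by rw [hcj j hj, map_zero, zero_mul]
    refine HomogeneousLocalization.val_injective _ ?_
    rw [HomogeneousLocalization.Away.val_mk, HomogeneousLocalization.val_zero, hb0, Localization.mk_zero]
  · intro x
    let t : ℕ → HomogeneousLocalization.Away (𝒮h.deg U hU) (RelCone.restrictTop 𝒮h z U) := fun i =>
      HomogeneousLocalization.Away.mk _ (hz.deg_z U hU) i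
        ((ι.hom.app (op U)).hom (DirectSum.decompose (𝒮.deg U hU) x i : 𝒮.presheaf.obj (op U)))
        (by simpa using hz.graded U hU _ _ (SetLike.coe_mem _))
    refine ⟨∑ i ∈ (DirectSum.decompose (𝒮.deg U hU) x).support, t i, ?_⟩
    rw [map_sum]
    refine Eq.trans ?_ (DirectSum.sum_support_decompose (𝒮.deg U hU) x)
    refine Finset.sum_congr rfl fun i _ => ?_
    rw [hz.awayZToBase_of_val U hU (t i) _ i (HomogeneousLocalization.Away.val_mk _ _ _ _ _), hz.evalOne_ι]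

include hz hU in
theorem z_mul_eq_zero {b : 𝒮h.presheaf.obj (op U)} {n : ℕ} (h : RelCone.restrictTop 𝒮h z U ^ n * b = 0) :
    b = 0 := by
  obtain ⟨P, rfl⟩ := (hz.bij U hU).2 b
  have h' : Polynomial.eval₂RingHom (ι.hom.app (op U)).hom (RelCone.restrictTop 𝒮h z U) (Polynomial.X ^ n * P) = 0 := by
    rw [map_mul, map_pow, Polynomial.coe_eval₂RingHom, Polynomial.eval₂_X]
    exact h
  have h'' : Polynomial.X ^ n * P = 0 := (hz.bij U hU).1 (h'.trans (map_zero _).symm)
  rw [Polynomial.X_pow_mul] at h''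
  have hP : P = 0 := Polynomial.ext fun m => by
    have := congrArg (fun t => Polynomial.coeff t (m + n)) h''
    simpa [Polynomial.coeff_mul_X_pow] using this
  rw [hP, map_zero]

variable {PC : Scheme.{u}} {pC : PC ⟶ S}
  {chartC : ∀ (U : S.Opens) (hU : IsAffineOpen U), (((pC ⁻¹ᵁ U : PC.Opens) : Scheme.{u}) ≅ Proj (𝒮h.deg U hU))}

theorem coneImm_res (hPC : RelProj.IsRelProj 𝒮h pC chartC) (r : Γ(S, U)) :
    Spec.map (𝒮.presheaf.map (homOfLE (S.basicOpen_le r)).op) ≫ Spec.map (CommRingCat.ofHom (hz.awayZToBase U hU)) ≫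
        Proj.awayι (𝒮h.deg U hU) (RelCone.restrictTop 𝒮h z U) (hz.deg_z U hU) one_pos ≫ RelProj.emb pC chartC U hU =
      Spec.map (CommRingCat.ofHom (hz.awayZToBase (S.basicOpen r) (hU.basicOpen r))) ≫
        Proj.awayι (𝒮h.deg _ (hU.basicOpen r)) (RelCone.restrictTop 𝒮h z (S.basicOpen r))
          (hz.deg_z _ (hU.basicOpen r)) one_pos ≫ RelProj.emb pC chartC _ (hU.basicOpen r) := by
  let ρ := 𝒮h.res hU (hU.basicOpen r) (S.basicOpen_le r)
  have hρz : ρ (RelCone.restrictTop 𝒮h z U) = RelCone.restrictTop 𝒮h z (S.basicOpen r) := by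
    show (𝒮h.presheaf.map _ ≫ 𝒮h.presheaf.map _).hom z = _
    rw [← Functor.map_comp]
    rfl
  have gen : ∀ (y : 𝒮h.presheaf.obj (op (S.basicOpen r))) (hy : y ∈ 𝒮h.deg _ (hU.basicOpen r) 1),
      y = RelCone.restrictTop 𝒮h z (S.basicOpen r) →
      ∃ σ : HomogeneousLocalization.Away (𝒮h.deg _ (hU.basicOpen r)) y →+* 𝒮.presheaf.obj (op (S.basicOpen r)),
        Spec.map (CommRingCat.ofHom σ) ≫ Proj.awayι _ y hy one_pos ≫ RelProj.emb pC chartC _ (hU.basicOpen r) =
          Spec.map (CommRingCat.ofHom (hz.awayZToBase (S.basicOpen r) (hU.basicOpen r))) ≫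
            Proj.awayι (𝒮h.deg _ (hU.basicOpen r)) (RelCone.restrictTop 𝒮h z (S.basicOpen r))
              (hz.deg_z _ (hU.basicOpen r)) one_pos ≫ RelProj.emb pC chartC _ (hU.basicOpen r) ∧
        ∀ (n : ℕ) (a : 𝒮h.presheaf.obj (op (S.basicOpen r))) (ha : a ∈ 𝒮h.deg _ (hU.basicOpen r) (n • 1)),
          σ (HomogeneousLocalization.Away.mk _ hy n a ha) = hz.evalOne _ (hU.basicOpen r) a := by
    rintro _ hy rfl
    exact ⟨_, rfl, fun n a ha =>
      hz.awayZToBase_of_val _ _ _ a n (HomogeneousLocalization.Away.val_mk _ _ _ _ _)⟩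
  obtain ⟨σ, hσ1, hσ2⟩ := gen (ρ (RelCone.restrictTop 𝒮h z U)) (ρ.map_mem (hz.deg_z U hU)) hρz
  rw [← hσ1, ← Groth.Agent.RelProjLib.QMap.emb_res hPC U hU r]
  rw [Proj.awayι_comp_map_assoc ρ _ one_pos (RelCone.restrictTop 𝒮h z U) (hz.deg_z U hU)]
  rw [← Spec.map_comp_assoc, ← Spec.map_comp_assoc]
  congr 2
  refine CommRingCat.hom_ext (RingHom.ext fun x => ?_)
  obtain ⟨n, a, ha, rfl⟩ := HomogeneousLocalization.Away.mk_surjective _ (hz.deg_z U hU) x
  show (𝒮.presheaf.map _).hom (hz.awayZToBase U hU _) =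
    σ (HomogeneousLocalization.Away.map ρ _ (HomogeneousLocalization.Away.mk _ _ n a ha))
  erw [HomogeneousLocalization.Away.map_mk]
  rw [hσ2, hz.awayZToBase_of_val U hU _ a n (HomogeneousLocalization.Away.val_mk _ _ _ _ _)]
  obtain ⟨P, rfl⟩ := (hz.bij U hU).2 a
  have h : ((𝒮.presheaf.map (homOfLE (S.basicOpen_le r)).op).hom.comp (hz.evalOne U hU)).comp
      (Polynomial.eval₂RingHom (ι.hom.app (op U)).hom (RelCone.restrictTop 𝒮h z U)) =
      ((hz.evalOne _ (hU.basicOpen r)).comp (𝒮h.presheaf.map (homOfLE (S.basicOpen_le r)).op).hom).comp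
      (Polynomial.eval₂RingHom (ι.hom.app (op U)).hom (RelCone.restrictTop 𝒮h z U)) := by
    refine Polynomial.ringHom_ext (fun t => ?_) ?_
    · simp only [RingHom.comp_apply, Polynomial.coe_eval₂RingHom, Polynomial.eval₂_C]
      rw [hz.evalOne_ι, show (𝒮h.presheaf.map (homOfLE (S.basicOpen_le r)).op).hom ((ι.hom.app (op U)).hom t) =
        (ι.hom.app (op (S.basicOpen r))).hom ((𝒮.presheaf.map (homOfLE (S.basicOpen_le r)).op).hom t) from
        (congrArg (fun v => (v : 𝒮.presheaf.obj (op U) ⟶ 𝒮h.presheaf.obj (op (S.basicOpen r))).hom t)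
          (ι.hom.naturality (homOfLE (S.basicOpen_le r)).op)).symm, hz.evalOne_ι]
    · simp only [RingHom.comp_apply, Polynomial.coe_eval₂RingHom, Polynomial.eval₂_X]
      rw [hz.evalOne_z, map_one, show (𝒮h.presheaf.map (homOfLE (S.basicOpen_le r)).op).hom (RelCone.restrictTop 𝒮h z U) =
        RelCone.restrictTop 𝒮h z (S.basicOpen r) from hρz, hz.evalOne_z]
  exact congrArg (fun v : Polynomial _ →+* _ => v P) h

theorem existsUnique_coneImm (hPC : RelProj.IsRelProj 𝒮h pC chartC) :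
    ∃! i : 𝒮.toQCAlg.spec ⟶ PC, RelCone.IsConeImm 𝒮 hz pC chartC i :=
  existsUnique_desc 𝒮.toQCAlg
    (fun U hU => Spec.map (CommRingCat.ofHom (hz.awayZToBase U hU)) ≫
      Proj.awayι (𝒮h.deg U hU) (RelCone.restrictTop 𝒮h z U) (hz.deg_z U hU) one_pos ≫ RelProj.emb pC chartC U hU)
    (fun U hU r => coneImm_res hz U hU hPC r)

theorem ι_coneImm_isOpenImmersion {i : 𝒮.toQCAlg.spec ⟶ PC} (hi : RelCone.IsConeImm 𝒮 hz pC chartC i) :
    IsOpenImmersion (𝒮.toQCAlg.ι U hU ≫ i) := by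
  haveI : IsIso (CommRingCat.ofHom (hz.awayZToBase U hU)) :=
    (ConcreteCategory.isIso_iff_bijective _).mpr (awayZToBase_bijective hz U hU)
  rw [hi U hU, RelProj.emb]
  infer_instance

theorem range_coneImm (hPC : RelProj.IsRelProj 𝒮h pC chartC) {i : 𝒮.toQCAlg.spec ⟶ PC}
    (hi : RelCone.IsConeImm 𝒮 hz pC chartC i) :
    Set.range i.base ∩ (pC ⁻¹ᵁ U : PC.Opens) =
      (RelProj.emb pC chartC U hU).base '' (Proj.basicOpen (𝒮h.deg U hU) (RelCone.restrictTop 𝒮h z U) : Set _) := by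
  haveI : IsIso (CommRingCat.ofHom (hz.awayZToBase U hU)) :=
    (ConcreteCategory.isIso_iff_bijective _).mpr (awayZToBase_bijective hz U hU)
  rw [← Proj.opensRange_awayι (𝒮h.deg U hU) (RelCone.restrictTop 𝒮h z U) (hz.deg_z U hU) one_pos]
  ext y
  constructor
  · rintro ⟨⟨x, rfl⟩, hx⟩
    have hπ : 𝒮.toQCAlg.π x ∈ U := by
      rw [← coneImm_π hz hPC hi, Scheme.Hom.comp_apply]; exact hx
    obtain ⟨w, rfl⟩ := mem_range_ι 𝒮.toQCAlg x U hU hπ
    refine ⟨_, ⟨Spec.map (CommRingCat.ofHom (hz.awayZToBase U hU)) w, rfl⟩, ?_⟩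
    exact (congrArg (fun t : Spec (𝒮.presheaf.obj (op U)) ⟶ PC => t w) (hi U hU)).symm
  · rintro ⟨_, ⟨w, rfl⟩, rfl⟩
    refine ⟨⟨𝒮.toQCAlg.ι U hU (inv (Spec.map (CommRingCat.ofHom (hz.awayZToBase U hU))) w), ?_⟩,
      ((chartC U hU).inv _).2⟩
    have h1 : inv (Spec.map (CommRingCat.ofHom (hz.awayZToBase U hU))) ≫ 𝒮.toQCAlg.ι U hU ≫ i =
        Proj.awayι (𝒮h.deg U hU) (RelCone.restrictTop 𝒮h z U) (hz.deg_z U hU) one_pos ≫ RelProj.emb pC chartC U hU := by
      rw [hi U hU, IsIso.inv_hom_id_assoc]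
    have h2 := congrArg (fun t => t w) h1
    simp only [Scheme.Hom.comp_apply] at h2
    exact h2

theorem coneImm_isOpenImmersion (hPC : RelProj.IsRelProj 𝒮h pC chartC) {i : 𝒮.toQCAlg.spec ⟶ PC}
    (hi : RelCone.IsConeImm 𝒮 hz pC chartC i) : IsOpenImmersion i := by
  refine IsOpenImmersion.of_openCover_source i (chartCover 𝒮.toQCAlg) ?_ (fun V => ι_coneImm_isOpenImmersion hz V.1 V.2 hi)
  intro x y hxy
  obtain ⟨V, hV, hxV, -⟩ := exists_isAffineOpen_mem_and_subset (U := (⊤ : S.Opens))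
    (show 𝒮.toQCAlg.π x ∈ (⊤ : S.Opens) from trivial)
  have hyV : 𝒮.toQCAlg.π y ∈ V := by
    have h := congrArg (fun t => pC t) hxy
    simp only [← Scheme.Hom.comp_apply, coneImm_π hz hPC hi] at h
    rwa [← h]
  obtain ⟨a, rfl⟩ := mem_range_ι 𝒮.toQCAlg x V hV hxV
  obtain ⟨b, rfl⟩ := mem_range_ι 𝒮.toQCAlg y V hV hyV
  haveI := ι_coneImm_isOpenImmersion hz V hV hi
  exact congrArg _ ((𝒮.toQCAlg.ι V hV ≫ i).isOpenEmbedding.injective hxy)

theorem coneImm_isAffineHom (hPC : RelProj.IsRelProj 𝒮h pC chartC) {i : 𝒮.toQCAlg.spec ⟶ PC}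
    (hi : RelCone.IsConeImm 𝒮 hz pC chartC i) : IsAffineHom i := by
  refine isAffineHom_of_forall_exists_isAffineOpen i fun y => ?_
  obtain ⟨V, hV, hyV, -⟩ := exists_isAffineOpen_mem_and_subset (U := (⊤ : S.Opens))
    (show pC y ∈ (⊤ : S.Opens) from trivial)
  obtain ⟨⟨d, g⟩, w, hw⟩ : ∃ s : Σ d : PNat, 𝒮h.deg V hV d,
      ∃ w, Proj.awayι (𝒮h.deg V hV) (s.2 : 𝒮h.presheaf.obj (op V)) s.2.2 s.1.2 w = (chartC V hV).hom ⟨y, hyV⟩ :=
    (Proj.affineOpenCover (𝒮h.deg V hV)).openCover.exists_eq _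
  refine ⟨(Proj.awayι (𝒮h.deg V hV) (g : 𝒮h.presheaf.obj (op V)) g.2 d.2 ≫ RelProj.emb pC chartC V hV).opensRange,
    ⟨w, ?_⟩, isAffineOpen_opensRange _, ?_⟩
  · show RelProj.emb pC chartC V hV (Proj.awayι _ _ _ _ w) = y
    rw [hw]
    show ((chartC V hV).hom ≫ (chartC V hV).inv ≫ (pC ⁻¹ᵁ V).ι) ⟨y, hyV⟩ = y
    rw [Iso.hom_inv_id_assoc]
    rfl
  · haveI := coneImm_isOpenImmersion hz hPC hi
    rw [← Scheme.Hom.isAffineOpen_iff_of_isOpenImmersion i]
    have e : i ''ᵁ (i ⁻¹ᵁ (Proj.awayι (𝒮h.deg V hV) (g : 𝒮h.presheaf.obj (op V)) g.2 d.2 ≫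
        RelProj.emb pC chartC V hV).opensRange) =
      RelProj.emb pC chartC V hV ''ᵁ Proj.basicOpen (𝒮h.deg V hV) (g.1 * RelCone.restrictTop 𝒮h z V) := by
      rw [Scheme.Hom.image_preimage_eq_opensRange_inf, Scheme.Hom.opensRange_comp, Proj.opensRange_awayι,
        Proj.basicOpen_mul]
      ext x
      constructor
      · rintro ⟨hx, v, hv, rfl⟩
        have h2 : RelProj.emb pC chartC V hV v ∈ Set.range i.base ∩ (pC ⁻¹ᵁ V : PC.Opens) :=
          ⟨hx, ((chartC V hV).inv v).2⟩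
        rw [range_coneImm hz V hV hPC hi] at h2
        obtain ⟨v', hv', hvv⟩ := h2
        rw [(RelProj.emb pC chartC V hV).isOpenEmbedding.injective hvv] at hv'
        exact ⟨v, ⟨hv, hv'⟩, rfl⟩
      · rintro ⟨v, ⟨hv, hv'⟩, rfl⟩
        have h2 : RelProj.emb pC chartC V hV v ∈ Set.range i.base ∩ (pC ⁻¹ᵁ V : PC.Opens) := by
          rw [range_coneImm hz V hV hPC hi]; exact ⟨v, hv', rfl⟩
        exact ⟨h2.1, v, hv, rfl⟩
    rw [e]
    refine (Proj.isAffineOpen_basicOpen _ _ (SetLike.mul_mem_graded g.2 (hz.deg_z V hV))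
      (Nat.add_pos_left d.2 _)).image_of_isOpenImmersion _

theorem coneImm_ker (hPC : RelProj.IsRelProj 𝒮h pC chartC) {i : 𝒮.toQCAlg.spec ⟶ PC}
    (hi : RelCone.IsConeImm 𝒮 hz pC chartC i) : i.ker = ⊥ := by
  haveI := coneImm_isAffineHom hz hPC hi
  let κ := Σ (V : S.affineOpens) (d : PNat), 𝒮h.deg V.1 V.2 d
  let e : ∀ k : κ, Spec (CommRingCat.of (HomogeneousLocalization.Away (𝒮h.deg k.1.1 k.1.2) (k.2.2 : 𝒮h.presheaf.obj (op k.1.1)))) ⟶ PC :=
    fun k => Proj.awayι (𝒮h.deg k.1.1 k.1.2) (k.2.2 : 𝒮h.presheaf.obj (op k.1.1)) k.2.2.2 k.2.1.2 ≫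
      RelProj.emb pC chartC k.1.1 k.1.2
  refine Scheme.IdealSheafData.ext_of_iSup_eq_top (fun k : κ => ⟨(e k).opensRange, isAffineOpen_opensRange _⟩) ?_ ?_
  · refine top_le_iff.mp fun y _ => ?_
    obtain ⟨V, hV, hyV, -⟩ := exists_isAffineOpen_mem_and_subset (U := (⊤ : S.Opens))
      (show pC y ∈ (⊤ : S.Opens) from trivial)
    obtain ⟨⟨d, g⟩, w, hw⟩ : ∃ s : Σ d : PNat, 𝒮h.deg V hV d,
        ∃ w, Proj.awayι (𝒮h.deg V hV) (s.2 : 𝒮h.presheaf.obj (op V)) s.2.2 s.1.2 w = (chartC V hV).hom ⟨y, hyV⟩ :=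
      (Proj.affineOpenCover (𝒮h.deg V hV)).openCover.exists_eq _
    refine Opens.mem_iSup.mpr ⟨⟨⟨V, hV⟩, d, g⟩, w, ?_⟩
    show RelProj.emb pC chartC V hV (Proj.awayι _ _ _ _ w) = y
    rw [hw]
    show ((chartC V hV).hom ≫ (chartC V hV).inv ≫ (pC ⁻¹ᵁ V).ι) ⟨y, hyV⟩ = y
    rw [Iso.hom_inv_id_assoc]
    rfl
  · rintro ⟨⟨V, hV'⟩, d, g, hg⟩
    have hV : IsAffineOpen V := hV'
    simp only [Scheme.Hom.ker_apply, Scheme.IdealSheafData.ideal_bot, Pi.bot_apply]
    refine (RingHom.injective_iff_ker_eq_bot _).mp ((injective_iff_map_eq_zero _).mpr fun s hs => ?_)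
    revert s
    suffices main : ∀ (ek : Spec (CommRingCat.of (HomogeneousLocalization.Away (𝒮h.deg V hV) g)) ⟶ PC)
        [IsOpenImmersion ek], ek = Proj.awayι (𝒮h.deg V hV) g hg d.2 ≫ RelProj.emb pC chartC V hV →
        ∀ s, i.app ek.opensRange s = 0 → s = 0 by
      exact main _ rfl
    intro ek _ hek s hs
    let m := Spec.map (CommRingCat.ofHom (HomogeneousLocalization.awayMap (𝒮h.deg V hV) (hz.deg_z V hV) (show g * RelCone.restrictTop 𝒮h z V = g * RelCone.restrictTop 𝒮h z V from rfl))) ≫ ek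
    haveI : IsIso (CommRingCat.ofHom (hz.awayZToBase V hV)) :=
      (ConcreteCategory.isIso_iff_bijective _).mpr (awayZToBase_bijective hz V hV)
    let k := Spec.map (CommRingCat.ofHom (HomogeneousLocalization.awayMap (𝒮h.deg V hV) hg (show g * RelCone.restrictTop 𝒮h z V = RelCone.restrictTop 𝒮h z V * g from mul_comm _ _))) ≫
      inv (Spec.map (CommRingCat.ofHom (hz.awayZToBase V hV))) ≫ 𝒮.toQCAlg.ι V hV
    have hmk : m = k ≫ i := by
      simp only [m, k, hek, Category.assoc, hi V hV, IsIso.inv_hom_id_assoc]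
      rw [Proj.SpecMap_awayMap_awayι_assoc (𝒮h.deg V hV) hg d.2 (hz.deg_z V hV),
        Proj.SpecMap_awayMap_awayι_assoc (𝒮h.deg V hV) (hz.deg_z V hV) one_pos hg]
      rfl
    have hle : ⊤ ≤ m ⁻¹ᵁ ek.opensRange := fun w _ => ⟨_, rfl⟩
    have h0 : m.appLE ek.opensRange ⊤ hle s = 0 := by
      simp only [hmk]
      rw [Scheme.Hom.comp_appLE, CommRingCat.comp_apply]
      exact (congrArg _ hs).trans (map_zero _)
    change (Spec.map _ ≫ ek).appLE _ _ _ s = 0 at h0
    rw [← Scheme.Hom.appLE_comp_appLE _ ek ek.opensRange ⊤ ⊤ (fun w _ => ⟨w, rfl⟩) le_top,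
      CommRingCat.comp_apply] at h0
    have hinj : Function.Injective (Spec.map (CommRingCat.ofHom
        (HomogeneousLocalization.awayMap (𝒮h.deg V hV) (hz.deg_z V hV) (show g * RelCone.restrictTop 𝒮h z V = g * RelCone.restrictTop 𝒮h z V from rfl)))).appTop := by
      have hf : Function.Injective (HomogeneousLocalization.awayMap (𝒮h.deg V hV) (hz.deg_z V hV)
          (show g * RelCone.restrictTop 𝒮h z V = g * RelCone.restrictTop 𝒮h z V from rfl)) := by
        refine (injective_iff_map_eq_zero _).mpr fun q hq => ?_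
        obtain ⟨n, a, ha, rfl⟩ := HomogeneousLocalization.Away.mk_surjective _ hg q
        have hq' := congrArg HomogeneousLocalization.val hq
        erw [HomogeneousLocalization.val_awayMap_mk] at hq'
        rw [HomogeneousLocalization.val_zero, Localization.mk_eq_mk', IsLocalization.mk'_eq_zero_iff] at hq'
        obtain ⟨⟨_, l, rfl⟩, hl⟩ := hq'
        refine HomogeneousLocalization.val_injective _ ?_
        rw [HomogeneousLocalization.Away.val_mk, HomogeneousLocalization.val_zero, Localization.mk_eq_mk',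
          IsLocalization.mk'_eq_zero_iff]
        refine ⟨⟨g ^ l, l, rfl⟩, ?_⟩
        refine z_mul_eq_zero hz V hV (n := l + n) ?_
        refine Eq.trans ?_ hl
        show RelCone.restrictTop 𝒮h z V ^ (l + n) * (g ^ l * a) =
          (g * RelCone.restrictTop 𝒮h z V) ^ l * (a * RelCone.restrictTop 𝒮h z V ^ n)
        simp only [mul_pow, pow_add]
        ring
      intro a b hab
      have hn := Scheme.ΓSpecIso_naturality (CommRingCat.ofHom (HomogeneousLocalization.awayMap (𝒮h.deg V hV)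
        (hz.deg_z V hV) (show g * RelCone.restrictTop 𝒮h z V = g * RelCone.restrictTop 𝒮h z V from rfl)))
      have h1 := congrArg (fun t => t a) hn
      have h2 := congrArg (fun t => t b) hn
      erw [CommRingCat.comp_apply, CommRingCat.comp_apply] at h1 h2
      erw [hab] at h1
      exact (ConcreteCategory.bijective_of_isIso (Scheme.ΓSpecIso _).hom).1 (hf (h1.symm.trans h2))
    have h1 := hinj (a₁ := ek.appLE ek.opensRange ⊤ (fun w _ => ⟨w, rfl⟩) s) (a₂ := 0) ((by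
      rw [Scheme.Hom.appTop, Scheme.Hom.app_eq_appLE]; exact h0.trans (map_zero _).symm))
    have hiso : IsIso (ek.appLE ek.opensRange ⊤ (fun w _ => ⟨w, rfl⟩)) := by
      have gen : ∀ (O : PC.Opens) (hO : O = ek ''ᵁ ⊤) (hle : ⊤ ≤ ek ⁻¹ᵁ O), IsIso (ek.appLE O ⊤ hle) := by
        rintro _ rfl hle
        rw [← Scheme.Hom.appIso_hom']
        infer_instance
      exact gen _ ek.image_top_eq_opensRange.symm _
    exact (ConcreteCategory.bijective_of_isIso (ek.appLE ek.opensRange ⊤ (fun w _ => ⟨w, rfl⟩))).1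
      (h1.trans (map_zero _).symm)

end coneImm

end Groth.Agent.RelSpecLib

end
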