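import Groth.Agent.RelSpecLib.Gen
import Groth.Agent.CohColim.FTUnion
import Groth.Agent.ProjBundleLib.DegOne

/-!
# Algebras of finite type are generated by modules of finite type
-/

set_option autoImplicit false
set_option backward.isDefEq.respectTransparency false
set_option linter.style.haveILetI false

universe u

open CategoryTheory CategoryTheory.Limits AlgebraicGeometry TopologicalSpace Opposite

noncomputable section

namespace Groth.Agent.RelSpecLib

variable {X : Scheme.{u}}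

/-- Finitely many quasi-coherent submodules of finite type lie in one. -/
theorem exists_ft_containing (M : X.Modules) [Coh.IsQCoh M] {κ : Type u} [Finite κ] (H : κ → X.Modules)
    (i : ∀ k, H k ⟶ M) (hi : ∀ k, Mono (i k)) (hq : ∀ k, Coh.IsQCoh (H k)) (hf : ∀ k, CohB1.IsFT (H k)) :
    ∃ (E : X.Modules) (j : E ⟶ M), Mono j ∧ Coh.IsQCoh E ∧ CohB1.IsFT E ∧
      ∀ (k : κ) (V : X.Opens) (z : Γ(H k, V)), ∃ e : Γ(E, V), j.app V e = (i k).app V z := by
  classical
  haveI := Fintype.ofFinite κ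
  suffices h : ∀ s : Finset κ, ∃ U, CohColim.IsFTSub M U ∧ ∀ k ∈ s,
      @Subobject.mk _ _ _ _ ((QCohLib.toAbF X).map (i k))
        (haveI := hi k; (QCohLib.toAbF X).map_mono (i k)) ≤ U by
    obtain ⟨U, ⟨E, j, hj, hj', hEq, hEf, rfl⟩, hle⟩ := h Finset.univ
    refine ⟨E, j, hj, hEq, hEf, fun k V z => ?_⟩
    haveI := hi k
    haveI : Mono ((QCohLib.toAbF X).map (i k)) := (QCohLib.toAbF X).map_mono (i k)
    let φ := Subobject.ofMkLEMk _ _ (hle k (Finset.mem_univ k))
    have hφ : φ ≫ (QCohLib.toAbF X).map j = (QCohLib.toAbF X).map (i k) := Subobject.ofMkLEMk_comp _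
    exact ⟨φ.hom.app (op V) z, congrArg (fun g : (QCohLib.toAbF X).obj (H k) ⟶ (QCohLib.toAbF X).obj M =>
      g.hom.app (op V) z) hφ⟩
  intro s
  induction s using Finset.induction_on with
  | empty =>
    obtain ⟨U, hU⟩ := CohColim.isFTSub_bot M
    exact ⟨U, hU, fun k hk => absurd hk (Finset.notMem_empty k)⟩
  | insert a t _ ih =>
    obtain ⟨U, hU, hle⟩ := ih
    haveI := hi a
    haveI : Mono ((QCohLib.toAbF X).map (i a)) := (QCohLib.toAbF X).map_mono (i a)
    obtain ⟨U', hU', h1, h2⟩ := CohColim.directed_isFTSub M hU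
      (T := Subobject.mk ((QCohLib.toAbF X).map (i a))) ⟨H a, i a, hi a, inferInstance, hq a, hf a, rfl⟩
    refine ⟨U', hU', fun k hk => ?_⟩
    rcases Finset.mem_insert.1 hk with rfl | hk
    · exact h2
    · exact (hle k hk).trans h1

variable {E : X.Modules} [Coh.IsQCoh E] (A : RelSpec.QCAlg X) (j : E ⟶ A.toModule)

/-- Generation may be checked on an affine cover. -/
theorem gen_eq_top_of_cover {κ : Type u} (U : κ → X.affineOpens) (hcov : ∀ x, ∃ k, x ∈ (U k).1)
    (hgen : ∀ k, gen A j (U k).1 = ⊤) {W : X.Opens} (hW : IsAffineOpen W) : gen A j W = ⊤ := by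
  refine eq_top_iff.2 fun s _ => mem_gen_of_cover A j hW s fun x hx => ?_
  obtain ⟨k, hk⟩ := hcov x
  obtain ⟨f, g, e, hxf⟩ := exists_basicOpen_le_affine_inter hW (U k).2 x ⟨hx, hk⟩
  refine ⟨f, hxf, ?_⟩
  let a := A.presheaf.map (homOfLE (X.basicOpen_le f)).op s
  letI := (A.presheaf.map (homOfLE (X.basicOpen_le g)).op).hom.toAlgebra
  haveI := A.isQC (U k).1 (U k).2 g
  let a' : A.presheaf.obj (op (X.basicOpen g)) := A.presheaf.map (homOfLE e.ge).op a
  obtain ⟨n, b, hb⟩ := IsLocalization.Away.surj ((A.str.app (op (U k).1)).hom g) a'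
  haveI := (U k).2.isLocalization_basicOpen g
  obtain ⟨v, hv⟩ := (IsLocalization.Away.algebraMap_isUnit (S := Γ(X, X.basicOpen g)) g).pow n
  have hb' : A.presheaf.map (homOfLE (X.basicOpen_le g)).op b ∈ gen A j (X.basicOpen g) :=
    res_mem_gen A j _ (hgen k ▸ Subring.mem_top b)
  have hga' : a' ∈ gen A j (X.basicOpen g) := by
    have h1 : a' = (A.str.app (op (X.basicOpen g))).hom (↑v⁻¹) *
        A.presheaf.map (homOfLE (X.basicOpen_le g)).op b := by
      rw [show A.presheaf.map (homOfLE (X.basicOpen_le g)).op b =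
        a' * (A.presheaf.map (homOfLE (X.basicOpen_le g)).op ((A.str.app (op (U k).1)).hom g)) ^ n from hb.symm,
        res_str A, ← map_pow,
        show X.presheaf.map (homOfLE (X.basicOpen_le g)).op g ^ n = ↑v from hv.symm, mul_left_comm,
        ← map_mul, Units.inv_mul, map_one, mul_one]
    rw [h1]
    exact mul_mem (str_mem_gen A j _) hb'
  have h2 := res_mem_gen A j e.le hga'
  rwa [show A.presheaf.map (homOfLE e.le).op a' = a by
    show A.presheaf.map _ (A.presheaf.map _ a) = a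
    rw [res_res A, show (homOfLE (e.le.trans e.ge)).op = 𝟙 _ from rfl, CategoryTheory.Functor.map_id]
    rfl] at h2

omit j in
/-- An algebra of finite type is generated by a submodule of finite type. -/
theorem exists_ft_generators [CompactSpace X] [QuasiSeparatedSpace X]
    (hA : ∀ U : X.affineOpens, (A.str.app (op (U : X.Opens))).hom.FiniteType) :
    ∃ (E : X.Modules) (j : E ⟶ A.toModule), Mono j ∧ Coh.IsQCoh E ∧ CohB1.IsFT E ∧
      ∀ W : X.affineOpens, gen A j W.1 = ⊤ := by
  classical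
  haveI := ProjBundleLib.isQCoh_toModule A
  let 𝒰 := X.affineCover.finiteSubcover
  let U : 𝒰.I₀ → X.affineOpens := fun k => ⟨(𝒰.f k).opensRange, isAffineOpen_opensRange (𝒰.f k)⟩
  have hs : ∀ k, ∃ s : Finset (A.presheaf.obj (op (U k).1)),
      letI := (A.str.app (op (U k).1)).hom.toAlgebra
      Algebra.adjoin Γ(X, (U k).1) (s : Set (A.presheaf.obj (op (U k).1))) = ⊤ := fun k => (hA (U k)).out
  choose s hs using hs
  have hsub : ∀ p : (k : 𝒰.I₀) × s k, ∃ (H : X.Modules) (i : H ⟶ A.toModule), Mono i ∧ Coh.IsQCoh H ∧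
      CohB1.IsFT H ∧ ∃ z, i.app (U p.1).1 z = p.2.1 := fun p => by
    obtain ⟨H, i, h1, h2, h3, z, hz⟩ := S9819.result A.toModule (U p.1) p.2.1
    exact ⟨H, i, h1, h2, h3, z, hz⟩
  choose H i hi hq hf z hz using hsub
  obtain ⟨E, j, hj, hEq, hEf, hcont⟩ := exists_ft_containing A.toModule H i hi hq hf
  haveI := hEq
  refine ⟨E, j, hj, hEq, hEf, fun W => gen_eq_top_of_cover A j U
    (fun x => ⟨𝒰.idx x, 𝒰.covers x⟩) (fun k => ?_) W.2⟩
  letI := (A.str.app (op (U k).1)).hom.toAlgebra
  let G : Subalgebra Γ(X, (U k).1) (A.presheaf.obj (op (U k).1)) :=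
    { (gen A j (U k).1).toSubsemiring with algebraMap_mem' := fun r => str_mem_gen A j r }
  have h1 : G = ⊤ := top_le_iff.1 (hs k ▸ Algebra.adjoin_le fun a ha => ?_)
  · exact eq_top_iff.2 fun a _ => (h1.ge Algebra.mem_top : a ∈ G)
  · obtain ⟨e, he⟩ := hcont ⟨k, a, ha⟩ (U k).1 (z ⟨k, a, ha⟩)
    rw [show a = jsec A j e from ((he.trans (hz ⟨k, a, ha⟩))).symm]
    exact jsec_mem_gen A j e

/-- The subalgebra generated by a module of finite type is of finite type. -/
theorem finiteType_subAlg (hE : CohB1.IsFT E) (V : X.affineOpens) :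
    ((subAlg A j).str.app (op (V : X.Opens))).hom.FiniteType := by
  classical
  haveI := QCohLib.finite_sections E hE V.2
  obtain ⟨s, hs⟩ := (Module.Finite.fg_top : (⊤ : Submodule Γ(X, V.1) Γ(E, V.1)).FG)
  letI : Algebra Γ(X, V.1) (sub A j V.1) :=
    ((A.str.app (op V.1)).hom.codRestrict (sub A j V.1) fun r => str_mem_sub A j r).toAlgebra
  let f : Γ(E, V.1) → sub A j V.1 := fun x => ⟨jsec A j x, jsec_mem_sub A j x⟩
  suffices h : Algebra.FiniteType Γ(X, V.1) (sub A j V.1) from h
  refine ⟨⟨s.image f, eq_top_iff.2 fun a _ => ?_⟩⟩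
  let T : Set (sub A j V.1) := ↑(s.image f)
  let G : Subring (A.presheaf.obj (op V.1)) :=
    (Algebra.adjoin Γ(X, V.1) T).toSubring.map (sub A j V.1).subtype
  have key : gen A j V.1 ≤ G := by
    refine Subring.closure_le.2 ?_
    rintro _ (⟨r, rfl⟩ | ⟨x, rfl⟩)
    · exact Subring.mem_map.2 ⟨⟨_, str_mem_sub A j r⟩, Subalgebra.algebraMap_mem _ r, rfl⟩
    · have hx : x ∈ Submodule.span Γ(X, V.1) (s : Set Γ(E, V.1)) := hs ▸ Submodule.mem_top
      induction hx using Submodule.span_induction with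
      | mem x hx => exact Subring.mem_map.2 ⟨f x, Algebra.subset_adjoin (Finset.mem_image_of_mem f hx), rfl⟩
      | zero =>
        rw [show jsec A j (0 : Γ(E, V.1)) = 0 from map_zero _]
        exact zero_mem _
      | add p q _ _ hp hq =>
        rw [show jsec A j (p + q) = jsec A j p + jsec A j q from map_add _ p q]
        exact add_mem hp hq
      | smul r p _ hp =>
        rw [jsec_smul]
        exact mul_mem (Subring.mem_map.2 ⟨⟨_, str_mem_sub A j r⟩, Subalgebra.algebraMap_mem _ r, rfl⟩) hp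
  obtain ⟨b, hb, hba⟩ := Subring.mem_map.1 (key ((sub_affine A j V.2).1 a.2))
  exact (Subtype.ext hba : b = a) ▸ hb

end Groth.Agent.RelSpecLib
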