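import Groth.Prelude.Def_RelSpec

/-! A quasi-coherent algebra from its sections over affine opens. -/

set_option autoImplicit false
set_option linter.style.haveILetI false
set_option backward.isDefEq.respectTransparency false
set_option backward.defeqAttrib.useBackward true

universe u

open CategoryTheory CategoryTheory.Limits AlgebraicGeometry TopologicalSpace Opposite

noncomputable section

namespace Groth.Agent.RelSpecLib

/-- Rings on the affine opens, under the functions, localising along basic opens. -/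
structure AffData (S : Scheme.{u}) where
  F : (S.AffineZariskiSite)ᵒᵖ ⥤ CommRingCat.{u}
  α : (Scheme.AffineZariskiSite.toOpensFunctor S).op ⋙ S.presheaf ⟶ F
  loc : ∀ (U : S.AffineZariskiSite) (f : Γ(S, U.1)),
    letI := (F.map (homOfLE (U.basicOpen_le f)).op).hom.toAlgebra
    IsLocalization.Away (α.app (op U) f) (F.obj (op (U.basicOpen f)))

namespace AffData

variable {S : Scheme.{u}} (D : AffData S)

theorem coequifibered : D.α.Coequifibered :=
  Scheme.AffineZariskiSite.coequifibered_iff_forall_isLocalizationAway.mpr D.loc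

/-- The gluing datum. -/
def glueData : (Scheme.AffineZariskiSite.directedCover S).RelativeGluingData :=
  Scheme.AffineZariskiSite.relativeGluingData D.coequifibered

instance : (D.glueData.functor ⋙ Scheme.forget).IsLocallyDirected :=
  Scheme.Cover.RelativeGluingData.instIsLocallyDirectedI₀CompFunctorForgetOfIsThin ..

/-- The glued scheme. -/
def spec : Scheme.{u} := D.glueData.glued

/-- Its structure morphism. -/
def π : D.spec ⟶ S := D.glueData.toBase

/-- The charts. -/
def ι (U : S.AffineZariskiSite) : Spec (D.F.obj (op U)) ⟶ D.spec := D.glueData.cover.f U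

instance (U : S.AffineZariskiSite) : IsOpenImmersion (D.ι U) := D.glueData.cover.map_prop _

theorem ι_π (U : S.AffineZariskiSite) : D.ι U ≫ D.π = Spec.map (D.α.app (op U)) ≫ U.2.fromSpec :=
  colimit.ι_desc _ _

theorem π_preimage (U : S.AffineZariskiSite) : D.π ⁻¹ᵁ U.1 = (D.ι U).opensRange := by
  simpa using! D.glueData.toBase_preimage_eq_opensRange_ι U

theorem ι_res {U V : S.AffineZariskiSite} (i : V ⟶ U) : Spec.map (D.F.map i.op) ≫ D.ι U = D.ι V :=
  colimit.w D.glueData.functor i

theorem top_le_preimage (U : S.AffineZariskiSite) :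
    (⊤ : (Spec (D.F.obj (op U))).Opens) ≤ D.ι U ⁻¹ᵁ (D.π ⁻¹ᵁ U.1) := by
  rw [← Scheme.Hom.comp_preimage, D.ι_π, Scheme.Hom.comp_preimage, U.2.fromSpec_preimage_self]
  exact le_top

instance isAffineHom_π : IsAffineHom D.π where
  isAffine_preimage U hU := by
    rw [D.π_preimage ⟨U, hU⟩]
    exact isAffineOpen_opensRange (D.ι ⟨U, hU⟩)

/-- The algebra. -/
def alg : RelSpec.QCAlg S := RelSpec.QCAlg.directImage D.π

/-- Its sections over an affine open. -/
def aff (U : S.AffineZariskiSite) : D.alg.presheaf.obj (op U.1) ⟶ D.F.obj (op U) :=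
  (D.ι U).appLE (D.π ⁻¹ᵁ U.1) ⊤ (D.top_le_preimage U) ≫ (Scheme.ΓSpecIso (D.F.obj (op U))).hom

instance isIso_aff (U : S.AffineZariskiSite) : IsIso (D.aff U) := by
  haveI : IsIso ((D.ι U).appLE (D.π ⁻¹ᵁ U.1) ⊤ (D.top_le_preimage U)) := by
    haveI : IsIso ((D.ι U).app (D.π ⁻¹ᵁ U.1)) := Scheme.Hom.isIso_app _ _ (D.π_preimage U).le
    have he : (D.ι U) ⁻¹ᵁ (D.π ⁻¹ᵁ U.1) = ⊤ := top_le_iff.mp (D.top_le_preimage U)
    rw [Scheme.Hom.appLE, show homOfLE (D.top_le_preimage U) = eqToHom he.symm from Subsingleton.elim _ _]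
    infer_instance
  unfold aff
  infer_instance

/-- The identifications, naturally. -/
def affNat : (Scheme.AffineZariskiSite.toOpensFunctor S).op ⋙ D.alg.presheaf ⟶ D.F where
  app U := D.aff U.unop
  naturality U V i := by
    change D.spec.presheaf.map (homOfLE (D.π.preimage_mono (Scheme.AffineZariskiSite.toOpens_mono i.unop.le))).op ≫
        D.aff V.unop = D.aff U.unop ≫ D.F.map i
    simp only [aff, Category.assoc]
    rw [show D.F.map i = D.F.map i.unop.op from rfl, ← Scheme.ΓSpecIso_naturality]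
    simp only [← Category.assoc]
    congr 1
    simp only [Scheme.Hom.appTop, Scheme.Hom.appLE, Category.assoc]
    have h1 := (Scheme.Hom.comp_app (Spec.map (D.F.map i.unop.op)) (D.ι U.unop) (D.π ⁻¹ᵁ U.unop.1)).symm
    rw [Scheme.Hom.naturality_assoc, Scheme.Hom.naturality, reassoc_of% h1,
      Scheme.Hom.congr_app (D.ι_res i.unop), Category.assoc, ← Functor.map_comp, ← Functor.map_comp]
    rfl

theorem str_aff (U : S.AffineZariskiSite) : D.alg.str.app (op U.1) ≫ D.aff U = D.α.app (op U) := by
  change D.π.app U.1 ≫ D.aff U = _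
  have h1 := Scheme.Hom.congr_app (D.ι_π U) U.1
  have h2 := (Scheme.Hom.comp_app (D.ι U) D.π U.1).symm
  have hk : ∀ k : (op ⊤ : (Spec (D.F.obj (op U))).Opensᵒᵖ) ⟶ op ⊤,
      (Spec (D.F.obj (op U))).presheaf.map k = 𝟙 _ := fun k => by
    rw [Subsingleton.elim k (𝟙 _)]; exact CategoryTheory.Functor.map_id _ _
  simp only [aff, Scheme.Hom.appLE, Category.assoc]
  rw [reassoc_of% h2, h1, Scheme.Hom.comp_app, U.2.fromSpec_app_self]
  simp only [Category.assoc]
  rw [Scheme.Hom.naturality_assoc]
  simp only [← Functor.map_comp_assoc]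
  erw [hk, Category.id_comp]
  rw [← cancel_epi (Scheme.ΓSpecIso Γ(S, U.1)).hom, Iso.hom_inv_id_assoc]
  erw [Scheme.ΓSpecIso_naturality]
  rfl

/-- The sections over the affine opens, as an isomorphism. -/
def affIso : (Scheme.AffineZariskiSite.toOpensFunctor S).op ⋙ D.alg.presheaf ≅ D.F :=
  haveI : ∀ U, IsIso (D.affNat.app U) := fun U => D.isIso_aff U.unop
  haveI : IsIso D.affNat := NatIso.isIso_of_isIso_app _
  asIso D.affNat

end AffData

end Groth.Agent.RelSpecLib
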