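import Mathlib
import Groth.Prelude.Def_RelProj4
import Groth.Agent.RelSpecLib.Basic

set_option autoImplicit false
set_option backward.isDefEq.respectTransparency false
set_option backward.defeqAttrib.useBackward true
set_option linter.style.haveILetI false

/-!
# The morphism of relative spectra over a morphism of bases
-/

universe u

open CategoryTheory AlgebraicGeometry TopologicalSpace Opposite

namespace Groth.Agent.RelSpecLib

variable {S S' : Scheme.{u}} {g : S' ⟶ S} {A : RelSpec.QCAlg S} {B : RelSpec.QCAlg S'}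
  (u : RelSpec.QHom g A B)

/-- A `g`-morphism as a map of presheaves. -/
noncomputable def qHom : A.presheaf ⟶ g.base _* B.presheaf where
  app U := u.app U.unop
  naturality _ _ i := (u.naturality i.unop.le).symm

/-- The homomorphism of algebras `A ⟶ (π ≫ g)_* O` of a `g`-morphism. -/
noncomputable def qAlg : A.presheaf ⟶ (B.π ≫ g).base _* B.spec.presheaf :=
  haveI := SpecQCAlg.isIso_gammaMap B
  qHom u ≫ (TopCat.Presheaf.pushforward CommRingCat.{u} g.base).map (inv B.gammaMap)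

theorem str_qAlg : A.str ≫ qAlg u = (B.π ≫ g).c := by
  haveI := SpecQCAlg.isIso_gammaMap B
  have h1 : B.str ≫ inv B.gammaMap = B.π.c := by
    rw [IsIso.comp_inv_eq, B.π_c_gammaMap]
  have hu : A.str ≫ qHom u = g.c ≫ (TopCat.Presheaf.pushforward CommRingCat.{u} g.base).map B.str := by
    ext U : 2
    exact congrArg CommRingCat.Hom.hom (u.str_app U)
  rw [qAlg, reassoc_of% hu, ← Functor.map_comp, h1]
  rfl

theorem isSpecQMap_lift : RelSpec.IsSpecQMap u (lift A (B.π ≫ g) (qAlg u)) := by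
  haveI := SpecQCAlg.isIso_gammaMap B
  intro U hU U' hU' hle
  have hle' : B.π ⁻¹ᵁ U' ≤ (B.π ≫ g) ⁻¹ᵁ U := B.π.preimage_mono hle
  rw [ι_eq B U' hU', IsAffineOpen.fromSpec, ← Scheme.homOfLE_ι _ hle']
  simp only [Category.assoc]
  rw [ι_lift A (B.π ≫ g) (qAlg u) U hU, homOn,
    ← reassoc_of% Scheme.Opens.toSpecΓ_SpecMap_presheaf_map, IsAffineOpen.isoSpec_inv_toSpecΓ_assoc]
  rw [← Spec.map_comp_assoc, ← Spec.map_comp_assoc]
  congr 2
  have hn := B.gammaMap.naturality (homOfLE hle).op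
  rw [B.gammaMap_app U' hU'] at hn
  have hi : (inv B.gammaMap).app (op (g ⁻¹ᵁ U)) ≫ B.gammaMap.app (op (g ⁻¹ᵁ U)) = 𝟙 _ := by
    rw [← NatTrans.comp_app, IsIso.inv_hom_id, NatTrans.id_app]
  change (u.app U ≫ (inv B.gammaMap).app (op (g ⁻¹ᵁ U))) ≫ _ ≫ _ = _
  rw [Category.assoc, RelSpec.QHom.appLE_eq]
  congr 1
  erw [hn]
  rw [reassoc_of% hi]

variable (g) in
theorem iSup_affinePair :
    ⨆ W : {W : S'.affineOpens // ∃ U : S.affineOpens, (W : S'.Opens) ≤ g ⁻¹ᵁ (U : S.Opens)},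
      (W.1 : S'.Opens) = ⊤ := by
  refine top_le_iff.mp fun x _ => ?_
  obtain ⟨U, hU, hxU, -⟩ := exists_isAffineOpen_mem_and_subset (U := (⊤ : S.Opens))
    (show g x ∈ (⊤ : S.Opens) from trivial)
  obtain ⟨W, hW, hxW, hWle⟩ := exists_isAffineOpen_mem_and_subset (U := g ⁻¹ᵁ U) hxU
  exact Opens.mem_iSup.mpr ⟨⟨⟨W, hW⟩, ⟨⟨U, hU⟩, hWle⟩⟩, hxW⟩

theorem isSpecQMap_eq {h : B.spec ⟶ A.spec} (hh : RelSpec.IsSpecQMap u h) :
    h = lift A (B.π ≫ g) (qAlg u) := by
  refine Scheme.Cover.hom_ext (B.spec.openCoverOfIsOpenCover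
    (fun W : {W : S'.affineOpens // ∃ U : S.affineOpens, (W : S'.Opens) ≤ g ⁻¹ᵁ (U : S.Opens)} =>
      B.π ⁻¹ᵁ (W.1 : S'.Opens))
    (by rw [IsOpenCover, ← Scheme.Hom.preimage_iSup, iSup_affinePair g, Scheme.Hom.preimage_top])) _ _ ?_
  rintro ⟨⟨W, hW⟩, ⟨U, hU⟩, hle⟩
  have h1 := (hh U hU W hW hle).trans (isSpecQMap_lift u U hU W hW hle).symm
  rw [ι_eq B W hW, IsAffineOpen.fromSpec] at h1
  simp only [Category.assoc] at h1
  haveI : IsIso (B.gammaAff W hW) := SpecQCAlg.isIso_gammaAff B W hW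
  rw [cancel_epi, cancel_epi] at h1
  exact h1

theorem isSpecQMap_π {h : B.spec ⟶ A.spec} (hh : RelSpec.IsSpecQMap u h) : h ≫ A.π = B.π ≫ g := by
  rw [isSpecQMap_eq u hh]
  exact lift_π A _ _ (str_qAlg u)

theorem algMap_isSpecQMap {h : B.spec ⟶ A.spec} (hh : RelSpec.IsSpecQMap u h) :
    algMap A (B.π ≫ g) h (isSpecQMap_π u hh) = qAlg u := by
  have := isSpecQMap_eq u hh
  subst this
  exact algMap_lift A _ _ (str_qAlg u)

theorem qAlg_app (U : S.Opens) :
    (qAlg u).app (op U) =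
      u.app U ≫ (algMap B B.π (𝟙 _) (Category.id_comp _)).app (op (g ⁻¹ᵁ U)) := by
  haveI := SpecQCAlg.isIso_gammaMap B
  have h : algMap B B.π (𝟙 _) (Category.id_comp _) = inv B.gammaMap := by
    rw [← cancel_mono B.gammaMap, algMap_id, IsIso.inv_hom_id]
  rw [h]
  rfl

/-- A `g`-morphism as a semilinear map of modules. -/
noncomputable def qMod : A.toModule ⟶ (Scheme.Modules.pushforward g).obj B.toModule :=
  ⟨PresheafOfModules.homMk
    { app := fun U => AddCommGrpCat.ofHom (u.app U.unop).hom.toAddMonoidHom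
      naturality := fun U V i => by
        ext m
        exact congrArg (fun t : A.presheaf.obj U ⟶ B.presheaf.obj (op (g ⁻¹ᵁ V.unop)) => t.hom m)
          (u.naturality i.unop.le).symm }
    fun U r m => by
      have h : (u.app U.unop).hom ((A.str.app U).hom r) =
          (B.str.app (op (g ⁻¹ᵁ U.unop))).hom ((g.app U.unop).hom r) :=
        congrArg (fun t : S.presheaf.obj U ⟶ B.presheaf.obj (op (g ⁻¹ᵁ U.unop)) => t.hom r)
          (u.str_app U.unop)
      exact (map_mul (u.app U.unop).hom _ _).trans (congrArg (· * _) h)⟩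

end Groth.Agent.RelSpecLib
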