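import Mathlib
import Groth.Agent.RelSpecLib.ConeImm
import Groth.Agent.RelProjLib.ConeComp

set_option autoImplicit false
set_option linter.style.haveILetI false
set_option linter.unusedVariables false
set_option backward.isDefEq.respectTransparency false
set_option backward.defeqAttrib.useBackward true

/-!
# The retraction of the pointed projective cone
-/

universe u

open CategoryTheory CategoryTheory.Limits AlgebraicGeometry TopologicalSpace Opposite
open scoped HomogeneousIdeal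

noncomputable section

namespace Groth.Agent.RelSpecLib

open Groth.Agent.RelProjLib.QMap

section point

variable {A σ B τ : Type u} [CommRing A] [SetLike σ A] [AddSubgroupClass σ A] {𝒜 : ℕ → σ} [GradedRing 𝒜]
  [CommRing B] [SetLike τ B] [AddSubgroupClass τ B] {ℬ : ℕ → τ} [GradedRing ℬ]

/-- On homogeneous elements the point under `Spec (Away.map φ f)` is the inverse image under `φ`. -/
theorem mem_awayι_map_iff (φ : 𝒜 →+*ᵍ ℬ) {d : ℕ} {f : A} (hf : f ∈ 𝒜 d) (hd : 0 < d)
    (w : Spec (CommRingCat.of (HomogeneousLocalization.Away ℬ (φ f)))) {k : ℕ} {a : A} (ha : a ∈ 𝒜 k) :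
    a ∈ (Proj.awayι 𝒜 f hf hd (Spec.map (CommRingCat.ofHom (HomogeneousLocalization.Away.map φ f)) w)).asHomogeneousIdeal ↔
      φ a ∈ (Proj.awayι ℬ (φ f) (φ.map_mem hf) hd w).asHomogeneousIdeal := by
  set x := Proj.awayι 𝒜 f hf hd (Spec.map (CommRingCat.ofHom (HomogeneousLocalization.Away.map φ f)) w)
  set v := Proj.awayι ℬ (φ f) (φ.map_mem hf) hd w
  have hfx : f ∉ x.asHomogeneousIdeal := by
    rw [← ProjectiveSpectrum.mem_basicOpen]
    show x ∈ Proj.basicOpen 𝒜 f
    rw [← Proj.opensRange_awayι 𝒜 f hf hd]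
    exact ⟨_, rfl⟩
  have hfv : φ f ∉ v.asHomogeneousIdeal := by
    rw [← ProjectiveSpectrum.mem_basicOpen]
    show v ∈ Proj.basicOpen ℬ (φ f)
    rw [← Proj.opensRange_awayι ℬ (φ f) (φ.map_mem hf) hd]
    exact ⟨_, rfl⟩
  have h2 := SetLike.ext_iff.mp
    (preimage_basicOpen φ hf hd (SetLike.mul_mem_graded ha hf) (Nat.add_pos_right k hd)) w
  have h3 : φ (a * f) ∉ v.asHomogeneousIdeal ↔ a * f ∉ x.asHomogeneousIdeal := h2
  rw [map_mul, not_iff_not] at h3
  constructor
  · intro h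
    exact (v.isPrime.mem_or_mem (h3.mpr (Ideal.mul_mem_right _ _ h))).resolve_right hfv
  · intro h
    exact (x.isPrime.mem_or_mem (h3.mp (Ideal.mul_mem_right _ _ h))).resolve_right hfx

theorem proj_ext_homogeneous {x y : Proj 𝒜}
    (h : ∀ (k : ℕ) (a : A), a ∈ 𝒜 k → (a ∈ x.asHomogeneousIdeal ↔ a ∈ y.asHomogeneousIdeal)) : x = y := by
  classical
  apply ProjectiveSpectrum.ext
  apply HomogeneousIdeal.toIdeal_injective
  ext b
  constructor <;> intro hb <;> rw [← DirectSum.sum_support_decompose 𝒜 b] <;> refine Ideal.sum_mem _ fun i _ => ?_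
  · exact (h i _ (SetLike.coe_mem _)).mp (x.asHomogeneousIdeal.isHomogeneous i hb)
  · exact (h i _ (SetLike.coe_mem _)).mpr (y.asHomogeneousIdeal.isHomogeneous i hb)

end point

section retr

variable {S : Scheme.{u}} {𝒮 𝒮h : RelProj.QCGrAlg S} {ι : 𝒮.toQCAlg ⟶ 𝒮h.toQCAlg}
  {z : 𝒮h.presheaf.obj (op ⊤)} (hz : RelCone.IsPolyOver 𝒮 𝒮h ι z) (U : S.Opens) (hU : IsAffineOpen U)

/-- Over an affine open, the graded retraction killing `z`. -/
def retrAt : 𝒮h.deg U hU →+*ᵍ 𝒮.deg U hU :=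
  { Polynomial.constantCoeff.comp (hz.polyEquiv U hU).symm.toRingHom with
    map_mem := by
      intro k b hb
      obtain ⟨c, hc, rfl⟩ := exists_decomp hz U hU hb
      show Polynomial.constantCoeff ((hz.polyEquiv U hU).symm _) ∈ _
      have e : (hz.polyEquiv U hU).symm
          (∑ j ∈ Finset.range (k + 1), (ι.hom.app (op U)).hom (c j) * RelCone.restrictTop 𝒮h z U ^ j) =
          ∑ j ∈ Finset.range (k + 1), Polynomial.C (c j) * Polynomial.X ^ j := by
        rw [RingEquiv.symm_apply_eq, map_sum]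
        refine Finset.sum_congr rfl fun j _ => ?_
        rw [map_mul, map_pow, hz.polyEquiv_apply, hz.polyEquiv_apply, Polynomial.eval₂_C, Polynomial.eval₂_X]
      rw [e, map_sum, Finset.sum_eq_single 0]
      · simpa using hc 0
      · intro j _ hj
        rw [Polynomial.constantCoeff_apply, Polynomial.coeff_C_mul_X_pow, if_neg (Ne.symm hj)]
      · intro h; exact absurd (Finset.mem_range.mpr (Nat.succ_pos k)) h }

theorem retrAt_ι (a : 𝒮.presheaf.obj (op U)) :
    retrAt hz U hU ((RelProj.gradedHomAt ι hz.graded U hU) a) = a := by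
  show Polynomial.constantCoeff ((hz.polyEquiv U hU).symm ((ι.hom.app (op U)).hom a)) = a
  have e : hz.polyEquiv U hU (Polynomial.C a) = (ι.hom.app (op U)).hom a := by
    rw [hz.polyEquiv_apply, Polynomial.eval₂_C]
  rw [← e, RingEquiv.symm_apply_apply, Polynomial.constantCoeff_apply, Polynomial.coeff_C_zero]

theorem away_map_ι_surjective {d : ℕ} (hd : 0 < d) {f : 𝒮.presheaf.obj (op U)} (hf : f ∈ 𝒮.deg U hU d) :
    Surjective (Spec.map (CommRingCat.ofHom
      (HomogeneousLocalization.Away.map (RelProj.gradedHomAt ι hz.graded U hU) f))) := by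
  have gen : ∀ (y : 𝒮.presheaf.obj (op U)), y = f →
      ∃ ρ : HomogeneousLocalization.Away (𝒮.deg U hU) y →+* HomogeneousLocalization.Away (𝒮.deg U hU) f,
        ∀ (n : ℕ) (a : 𝒮.presheaf.obj (op U)) (ha : a ∈ 𝒮.deg U hU (n • d)) (hy : y ∈ 𝒮.deg U hU d),
          ρ (HomogeneousLocalization.Away.mk _ hy n a ha) = HomogeneousLocalization.Away.mk _ hf n a ha := by
    rintro _ rfl
    exact ⟨RingHom.id _, fun n a ha hy => rfl⟩
  obtain ⟨ρ, hρ⟩ := gen _ (retrAt_ι hz U hU f)
  let R : HomogeneousLocalization.Away (𝒮h.deg U hU) ((RelProj.gradedHomAt ι hz.graded U hU) f) →+*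
      HomogeneousLocalization.Away (𝒮.deg U hU) f :=
    ρ.comp (HomogeneousLocalization.Away.map (retrAt hz U hU) ((RelProj.gradedHomAt ι hz.graded U hU) f))
  have hR : ∀ q, R (HomogeneousLocalization.Away.map (RelProj.gradedHomAt ι hz.graded U hU) f q) = q := by
    intro q
    obtain ⟨n, a, ha, rfl⟩ := HomogeneousLocalization.Away.mk_surjective _ hf q
    show ρ (HomogeneousLocalization.Away.map _ _ (HomogeneousLocalization.Away.map _ _ _)) = _
    rw [HomogeneousLocalization.Away.map_mk, HomogeneousLocalization.Away.map_mk, hρ]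
    refine HomogeneousLocalization.val_injective _ ?_
    rw [HomogeneousLocalization.Away.val_mk, HomogeneousLocalization.Away.val_mk, retrAt_ι]
  refine ⟨fun x => ⟨Spec.map (CommRingCat.ofHom R) x, ?_⟩⟩
  rw [← Scheme.Hom.comp_apply, ← Spec.map_comp, ← CommRingCat.ofHom_comp,
    show R.comp (HomogeneousLocalization.Away.map (RelProj.gradedHomAt ι hz.graded U hU) f) = RingHom.id _ from
      RingHom.ext hR, CommRingCat.ofHom_id, Spec.map_id]
  rfl


theorem eq_of_retr {PC P : Scheme.{u}} {pC : PC ⟶ S}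
    {chartC : ∀ (U : S.Opens) (hU : IsAffineOpen U), (((pC ⁻¹ᵁ U : PC.Opens) : Scheme.{u}) ≅ Proj (𝒮h.deg U hU))}
    (hC : RelProj.IsRelProj 𝒮h pC chartC) {p : P ⟶ S}
    {chart : ∀ (U : S.Opens) (hU : IsAffineOpen U), (((p ⁻¹ᵁ U : P.Opens) : Scheme.{u}) ≅ Proj (𝒮.deg U hU))}
    {v : ((RelProj.domQ (RelProj.QGrHom.ofHom ι hz.graded) pC chartC : PC.Opens) : Scheme.{u}) ⟶ P}
    (hv : RelProj.IsProjQMapOn (RelProj.QGrHom.ofHom ι hz.graded) p chart pC chartC
      (RelProj.domQ (RelProj.QGrHom.ofHom ι hz.graded) pC chartC) v)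
    (r : ((RelProj.domQ (RelProj.QGrHom.ofHom ι hz.graded) pC chartC : PC.Opens) : Scheme.{u}) ⟶ P)
    (hr : ∀ (U : S.Opens) (hU : IsAffineOpen U) (d : ℕ) (hd : 0 < d) (f : 𝒮.presheaf.obj (op U)) (hf : f ∈ 𝒮.deg U hU d)
        (g : Spec (CommRingCat.of (HomogeneousLocalization.Away (𝒮h.deg U hU) ((RelProj.gradedHomAt ι hz.graded U hU) f))) ⟶
          ((RelProj.domQ (RelProj.QGrHom.ofHom ι hz.graded) pC chartC : PC.Opens) : Scheme.{u})),
        g ≫ (RelProj.domQ (RelProj.QGrHom.ofHom ι hz.graded) pC chartC).ι =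
            Proj.awayι (𝒮h.deg U hU) ((RelProj.gradedHomAt ι hz.graded U hU) f) ((RelProj.gradedHomAt ι hz.graded U hU).2 hf) hd ≫
              RelProj.emb pC chartC U hU →
          g ≫ r =
            Spec.map (CommRingCat.ofHom (HomogeneousLocalization.Away.map (RelProj.gradedHomAt ι hz.graded U hU) f)) ≫
              Proj.awayι (𝒮.deg U hU) f hf hd ≫ RelProj.emb p chart U hU) : r = v := by
  let A := RelProj.QGrHom.ofHom ι hz.graded
  classical
  have hpt : ∀ x : ↥(((RelProj.domQ A pC chartC) : PC.Opens) : Scheme.{u}), ∃ k : Groth.Agent.RelProjLib.QMap.Idx (g := 𝟙 S) (𝒮 := 𝒮),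
      x.1 ∈ Set.range (Groth.Agent.RelProjLib.QMap.cMap A pC chartC k).base ∧
        Groth.Agent.RelProjLib.QMap.lMap A pC chartC k ≫ r = Groth.Agent.RelProjLib.QMap.dMap A p chart k := by
    intro x
    obtain ⟨U, hU, hxU, -⟩ := exists_isAffineOpen_mem_and_subset (U := (⊤ : S.Opens))
      (show pC x.1 ∈ (⊤ : S.Opens) from trivial)
    obtain ⟨d, hd, f, hf, hx⟩ := Groth.Agent.RelProjLib.QMap.exists_idx_of_mem hz.graded hC x.1 x.2 U hU hxU
    refine ⟨⟨U, hU, U, hU, le_rfl, d, hd, f, hf⟩, hx, ?_⟩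
    have key : ∀ (χ : 𝒮.deg U hU →+*ᵍ 𝒮h.deg U hU), χ = RelProj.gradedHomAt ι hz.graded U hU →
        ∀ (g : Spec (CommRingCat.of (HomogeneousLocalization.Away (𝒮h.deg U hU) (χ f))) ⟶ (((RelProj.domQ A pC chartC) : PC.Opens) : Scheme.{u})),
          g ≫ (RelProj.domQ A pC chartC).ι = Proj.awayι (𝒮h.deg U hU) (χ f) (χ.2 hf) hd ≫ RelProj.emb pC chartC U hU →
          g ≫ r = Spec.map (CommRingCat.ofHom (HomogeneousLocalization.Away.map χ f)) ≫
            Proj.awayι (𝒮.deg U hU) f hf hd ≫ RelProj.emb p chart U hU := by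
      rintro _ rfl g hg
      exact hr U hU d hd f hf g hg
    exact key _ (Groth.Agent.RelProjLib.QMap.gradedAt_ofHom hz.graded U hU) _
      (Groth.Agent.RelProjLib.QMap.lMap_ι A pC chartC _)
  choose k hk1 hk2 using hpt
  let O : ↥(((RelProj.domQ A pC chartC) : PC.Opens) : Scheme.{u}) → Scheme.{u} := fun x => Groth.Agent.RelProjLib.QMap.src A (k x)
  refine Scheme.Cover.hom_ext (Scheme.Cover.mkOfCovers (P := @IsOpenImmersion) ↥(((RelProj.domQ A pC chartC) : PC.Opens) : Scheme.{u}) O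
    (fun x => Groth.Agent.RelProjLib.QMap.lMap A pC chartC (k x)) (fun x => by
      obtain ⟨y, hy⟩ := hk1 x
      refine ⟨x, y, (RelProj.domQ A pC chartC).ι.isOpenEmbedding.injective ?_⟩
      exact (congrArg (fun t => t y) (Groth.Agent.RelProjLib.QMap.lMap_ι A pC chartC (k x))).trans hy)
    (fun x => by infer_instance)) _ _ fun x => ?_
  show Groth.Agent.RelProjLib.QMap.lMap A pC chartC (k x) ≫ r = Groth.Agent.RelProjLib.QMap.lMap A pC chartC (k x) ≫ v
  rw [hk2 x, Groth.Agent.RelProjLib.QMap.lMap_comp hv (k x)]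

end retr

end Groth.Agent.RelSpecLib

end
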